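import Groth.Agent.Lib.SymGr.SymPow
import Mathlib.RingTheory.Ideal.Cotangent
import Mathlib.RingTheory.Ideal.Quotient.Operations
import Mathlib.Algebra.BigOperators.Fin

/-!
# The canonical map `Sym^n (I/I²) → Iⁿ/Iⁿ⁺¹` for an ideal of an `S`-algebra
-/

universe u v

namespace Groth.Agent.SymGr

open TensorProduct

variable (S : Type u) {R : Type v} [CommRing S] [CommRing R] [Algebra S R] (I : Ideal R)

/-- `Iⁿ/Iⁿ⁺¹` as an `S`-module. -/
abbrev gr (n : ℕ) : Type v :=
  ↥((I ^ n).restrictScalars S) ⧸
    (((I ^ (n + 1)).restrictScalars S).comap ((I ^ n).restrictScalars S).subtype)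

theorem prod_mem {ι : Type*} [Fintype ι] (x : ι → ↥I) : ∏ i, (x i : R) ∈ I ^ Fintype.card ι := by
  have := Ideal.prod_mem_prod (ι := ι) (I := fun _ => I) (x := fun i => (x i : R)) (s := Finset.univ)
    fun i _ => (x i).2
  simpa using this

/-- The class of a product. -/
def zeta {ι : Type*} [Fintype ι] (x : ι → ↥I) : gr S I (Fintype.card ι) :=
  Submodule.Quotient.mk ⟨∏ i, (x i : R), prod_mem I x⟩

theorem prod_sub_prod_mem {ι : Type*} (s : Finset ι) (x y : ι → R) (hy : ∀ i ∈ s, y i ∈ I)
    (h : ∀ i ∈ s, x i - y i ∈ I ^ 2) :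
    (∏ i ∈ s, x i) - ∏ i ∈ s, y i ∈ I ^ (s.card + 1) := by
  classical
  induction s using Finset.induction_on with
  | empty => simp
  | insert a t hat ih =>
    rw [Finset.prod_insert hat, Finset.prod_insert hat, Finset.card_insert_of_notMem hat]
    have h1 := ih (fun i hi => hy i (Finset.mem_insert_of_mem hi)) fun i hi => h i (Finset.mem_insert_of_mem hi)
    have ha := h a (Finset.mem_insert_self a t)
    have hxa : x a ∈ I := by
      have := add_mem (Ideal.pow_le_self two_ne_zero ha) (hy a (Finset.mem_insert_self a t))
      simpa using this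
    have hyt : ∏ i ∈ t, y i ∈ I ^ t.card := by
      have := Ideal.prod_mem_prod (I := fun _ => I) (x := y) (s := t) fun i hi => hy i (Finset.mem_insert_of_mem hi)
      simpa using this
    have heq : x a * ∏ i ∈ t, x i - y a * ∏ i ∈ t, y i =
        x a * (∏ i ∈ t, x i - ∏ i ∈ t, y i) + (x a - y a) * ∏ i ∈ t, y i := by ring
    rw [heq]
    refine add_mem ?_ ?_
    · rw [pow_succ' I (t.card + 1)]
      exact Ideal.mul_mem_mul hxa h1
    · rw [show t.card + 1 + 1 = 2 + t.card by omega, pow_add]
      exact Ideal.mul_mem_mul ha hyt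

theorem zeta_congr {ι : Type*} [Fintype ι] (x y : ι → ↥I)
    (h : ∀ i, I.toCotangent (x i) = I.toCotangent (y i)) : zeta S I x = zeta S I y := by
  rw [zeta, zeta, Submodule.Quotient.eq]
  exact prod_sub_prod_mem I Finset.univ (fun i => (x i : R)) (fun i => (y i : R)) (fun i _ => (y i).2)
    fun i _ => (Ideal.toCotangent_eq I).mp (h i)

section canon

variable (ι : Type u) [Fintype ι]

/-- A chosen representative of a class. -/
noncomputable def rep (m : I.Cotangent) : ↥I := Function.surjInv I.toCotangent_surjective m

theorem toCotangent_rep (m : I.Cotangent) : I.toCotangent (rep I m) = m :=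
  Function.surjInv_eq I.toCotangent_surjective m

/-- The product map on classes, as a multilinear map. -/
noncomputable def prodML : MultilinearMap S (fun _ : ι => I.Cotangent) (gr S I (Fintype.card ι)) where
  toFun m := zeta S I fun i => rep I (m i)
  map_update_add' {_} m i a b := by
    classical
    have h : ∀ c, zeta S I (fun j => rep I (Function.update m i c j)) =
        zeta S I (Function.update (fun j => rep I (m j)) i (rep I c)) := fun c => by
      congr 1; funext j
      by_cases hj : j = i
      · subst hj; simp
      · simp [hj]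
    have hab : zeta S I (Function.update (fun j => rep I (m j)) i (rep I (a + b))) =
        zeta S I (Function.update (fun j => rep I (m j)) i (rep I a + rep I b)) := by
      refine zeta_congr S I _ _ fun j => ?_
      by_cases hj : j = i
      · subst hj
        rw [Function.update_self, Function.update_self, map_add, toCotangent_rep, toCotangent_rep,
          toCotangent_rep]
      · rw [Function.update_of_ne hj, Function.update_of_ne hj]
    rw [h, h, h, hab]
    show Submodule.Quotient.mk _ = Submodule.Quotient.mk _ + Submodule.Quotient.mk _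
    rw [← Submodule.Quotient.mk_add]
    congr 1
    ext
    show ∏ j, ((Function.update (fun j => rep I (m j)) i (rep I a + rep I b) j : ↥I) : R) = _ + _
    simp only [fun (c : ↥I) (j : ι) => Function.apply_update (fun _ => (Subtype.val : ↥I → R))
      (fun j => rep I (m j)) i c j, Finset.prod_update_of_mem (Finset.mem_univ i), Submodule.coe_add]
    ring
  map_update_smul' {_} m i r a := by
    classical
    have h : ∀ c, zeta S I (fun j => rep I (Function.update m i c j)) =
        zeta S I (Function.update (fun j => rep I (m j)) i (rep I c)) := fun c => by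
      congr 1; funext j
      by_cases hj : j = i
      · subst hj; simp
      · simp [hj]
    have hab : zeta S I (Function.update (fun j => rep I (m j)) i (rep I (r • a))) =
        zeta S I (Function.update (fun j => rep I (m j)) i (r • rep I a)) := by
      refine zeta_congr S I _ _ fun j => ?_
      by_cases hj : j = i
      · subst hj
        rw [Function.update_self, Function.update_self, LinearMap.map_smul_of_tower, toCotangent_rep,
          toCotangent_rep]
      · rw [Function.update_of_ne hj, Function.update_of_ne hj]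
    rw [h, h, hab]
    show Submodule.Quotient.mk _ = r • Submodule.Quotient.mk _
    rw [← Submodule.Quotient.mk_smul]
    congr 1
    ext
    show ∏ j, ((Function.update (fun j => rep I (m j)) i (r • rep I a) j : ↥I) : R) = r • _
    simp only [fun (c : ↥I) (j : ι) => Function.apply_update (fun _ => (Subtype.val : ↥I → R))
      (fun j => rep I (m j)) i c j, Finset.prod_update_of_mem (Finset.mem_univ i)]
    rw [SetLike.val_smul_of_tower, smul_mul_assoc]

theorem prodML_symm (e : Equiv.Perm ι) (m : ι → I.Cotangent) :
    prodML S I ι (fun i => m (e i)) = prodML S I ι m := by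
  show zeta S I _ = zeta S I _
  unfold zeta
  congr 1
  ext
  exact Equiv.prod_comp e fun i => (rep I (m i) : R)

/-- The canonical map. -/
noncomputable def canon : Sym[S] ι I.Cotangent →ₗ[S] gr S I (Fintype.card ι) :=
  lift (prodML S I ι) (prodML_symm S I ι)

theorem canon_tprod (x : ι → ↥I) :
    canon S I ι (SymmetricPower.tprod S fun i => I.toCotangent (x i)) = zeta S I x := by
  rw [canon, lift_tprod]
  exact zeta_congr S I _ _ fun i => toCotangent_rep I _

variable {S I ι}

theorem tprod_span_eq_top {M : Type*} [AddCommGroup M] [Module S M] {κ : Type*} (v : κ → M)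
    (hv : Submodule.span S (Set.range v) = ⊤) :
    Submodule.span S (Set.range fun c : ι → κ => SymmetricPower.tprod S fun i => v (c i)) = ⊤ := by
  classical
  rw [eq_top_iff, ← SymmetricPower.span_tprod_eq_top S ι, Submodule.span_le]
  rintro _ ⟨x, rfl⟩
  have hx : ∀ i, ∃ c : κ →₀ S, Finsupp.linearCombination S v c = x i := fun i =>
    (Finsupp.mem_span_range_iff_exists_finsupp).mp (hv ▸ Submodule.mem_top)
  choose c hc using hx
  have : x = fun i => ∑ k ∈ (c i).support, c i k • v k := funext fun i => by
    rw [← hc i, Finsupp.linearCombination_apply, Finsupp.sum]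
  rw [SetLike.mem_coe, this, MultilinearMap.map_sum_finset]
  refine sum_mem fun k _ => ?_
  rw [MultilinearMap.map_smul_univ]
  exact Submodule.smul_mem _ _ (Submodule.subset_span ⟨k, rfl⟩)

/-- Uniqueness of the canonical map on a spanning family. -/
theorem eq_canon_of_span {κ : Type*} (v : κ → ↥I)
    (hv : Submodule.span S (Set.range fun k => I.toCotangent (v k)) = ⊤)
    (φ : Sym[S] ι I.Cotangent →ₗ[S] gr S I (Fintype.card ι))
    (hφ : ∀ c : ι → κ, φ (SymmetricPower.tprod S fun i => I.toCotangent (v (c i))) = zeta S I fun i => v (c i)) :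
    φ = canon S I ι :=
  LinearMap.ext_on_range (tprod_span_eq_top _ hv) fun c => by rw [hφ, canon_tprod]

theorem canon_surjective (hS : ∀ r : R, ∃ s : S, r - algebraMap S R s ∈ I) :
    Function.Surjective (canon S I ι) := by
  have key : ∀ x ∈ I ^ Fintype.card ι, ∀ hx : x ∈ I ^ Fintype.card ι,
      (Submodule.Quotient.mk ⟨x, hx⟩ : gr S I (Fintype.card ι)) ∈ LinearMap.range (canon S I ι) := by
    intro x hx
    have hprod : I ^ Fintype.card ι = Ideal.span {y | ∃ z : ι → ↥I, y = ∏ i, (z i : R)} := by
      classical
      have h : I ^ Fintype.card ι = ∏ _i : ι, I := by simp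
      rw [h]
      conv_lhs => rw [← Ideal.span_eq I, Ideal.prod_span]
      congr 1
      ext y
      simp only [Set.mem_finsetProd, Finset.mem_univ, forall_const, Set.mem_setOf_eq]
      constructor
      · rintro ⟨g, hg, rfl⟩; exact ⟨fun i => ⟨g i, hg⟩, rfl⟩
      · rintro ⟨z, rfl⟩; exact ⟨fun i => z i, fun {i} => (z i).2, rfl⟩
    rw [hprod] at hx
    induction hx using Submodule.span_induction with
    | mem y hy =>
      obtain ⟨z, rfl⟩ := hy
      intro _
      exact ⟨_, canon_tprod S I ι z⟩
    | zero => intro hx; exact ⟨0, by rw [map_zero]; rfl⟩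
    | add a b ha hb iha ihb =>
      intro hx
      replace ha : a ∈ I ^ Fintype.card ι := by rw [hprod]; exact ha
      replace hb : b ∈ I ^ Fintype.card ι := by rw [hprod]; exact hb
      have h : (Submodule.Quotient.mk ⟨a + b, hx⟩ : gr S I (Fintype.card ι)) =
          Submodule.Quotient.mk ⟨a, ha⟩ + Submodule.Quotient.mk ⟨b, hb⟩ := by
        rw [← Submodule.Quotient.mk_add]; rfl
      rw [h]
      exact add_mem (iha ha) (ihb hb)
    | smul r a ha ih =>
      intro hx
      replace ha : a ∈ I ^ Fintype.card ι := by rw [hprod]; exact ha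
      obtain ⟨s, hs⟩ := hS r
      have h : (Submodule.Quotient.mk ⟨r • a, hx⟩ : gr S I (Fintype.card ι)) =
          s • Submodule.Quotient.mk ⟨a, ha⟩ := by
        rw [← Submodule.Quotient.mk_smul, Submodule.Quotient.eq]
        show r • a - s • a ∈ I ^ (Fintype.card ι + 1)
        rw [smul_eq_mul, Algebra.smul_def, ← sub_mul, pow_succ']
        exact Ideal.mul_mem_mul hs ha
      rw [h]
      exact Submodule.smul_mem _ _ (ih ha)
  intro y
  obtain ⟨⟨x, hx⟩, rfl⟩ := Submodule.Quotient.mk_surjective _ y
  exact key x hx hx

/-- Injectivity criterion: a ring map to a nilpotent thickening whose linear part has injective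
product map. -/
theorem canon_injective_of_hom {Q : Type*} [CommRing Q] [Algebra S Q] (θ : R →ₐ[S] Q) (J : Ideal Q)
    (hJ : J ^ (Fintype.card ι + 1) = ⊥) (hθ : ∀ x ∈ I, θ x ∈ J) (j : I.Cotangent →ₗ[S] Q)
    (hj : ∀ x : ↥I, θ x - j (I.toCotangent x) ∈ J ^ 2) (hinj : Function.Injective (prodMap (ι := ι) j)) :
    Function.Injective (canon S I ι) := by
  let pre : ↥((I ^ Fintype.card ι).restrictScalars S) →ₗ[S] Q :=
    θ.toLinearMap.comp ((I ^ Fintype.card ι).restrictScalars S).subtype
  have hpre : ((I ^ (Fintype.card ι + 1)).restrictScalars S).comap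
      ((I ^ Fintype.card ι).restrictScalars S).subtype ≤ LinearMap.ker pre := by
    intro x hx
    have hle : I.map θ ≤ J := Ideal.map_le_iff_le_comap.mpr hθ
    have h := Ideal.pow_right_mono hle (Fintype.card ι + 1)
    rw [← Ideal.map_pow, hJ] at h
    exact (Submodule.mem_bot Q).mp (h (Ideal.mem_map_of_mem θ hx))
  let Ψ := Submodule.liftQ _ pre hpre
  have h : Ψ ∘ₗ canon S I ι = prodMap j := hom_ext fun m => by
    classical
    obtain ⟨x, rfl⟩ : ∃ x : ι → ↥I, (fun i => I.toCotangent (x i)) = m :=
      ⟨fun i => rep I (m i), funext fun i => toCotangent_rep I _⟩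
    rw [LinearMap.comp_apply, canon_tprod, prodMap_tprod]
    show θ (∏ i, (x i : R)) = _
    rw [map_prod, ← sub_eq_zero, ← Submodule.mem_bot Q, ← hJ]
    have := prod_sub_prod_mem J Finset.univ (fun i => θ (x i)) (fun i => j (I.toCotangent (x i)))
      (fun i _ => by
        have h1 := sub_mem (hθ _ (x i).2) (Ideal.pow_le_self two_ne_zero (hj (x i)))
        simpa using h1) fun i _ => hj (x i)
    exact this
  intro a b hab
  exact hinj (by rw [← h, LinearMap.comp_apply, LinearMap.comp_apply, hab])

end canon

end Groth.Agent.SymGr
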