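import Groth.Prelude.Def_PP16
import Groth.Agent.Lib.SymGr.Canon
import Mathlib.RingTheory.Kaehler.TensorProduct
import Mathlib.RingTheory.Smooth.Basic

/-!
# Differential smoothness via the canonical map
-/

universe u
open scoped TensorProduct

namespace Groth.Agent.SymGr

variable (A B : Type u) [CommRing A] [CommRing B] [Algebra A B]

/-- `1 ⊗ b - b ⊗ 1` in the diagonal ideal. -/
noncomputable def del (b : B) : ↥(KaehlerDifferential.ideal A B) :=
  ⟨(1 : B) ⊗ₜ[A] b - b ⊗ₜ[A] (1 : B), KaehlerDifferential.one_smul_sub_smul_one_mem_ideal A b⟩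

theorem span_toCotangent_del :
    Submodule.span B (Set.range fun b => (KaehlerDifferential.ideal A B).toCotangent (del A B b)) = ⊤ :=
  KaehlerDifferential.span_range_derivation A B

theorem exists_sub_mem_ideal (r : B ⊗[A] B) :
    ∃ s : B, r - algebraMap B (B ⊗[A] B) s ∈ KaehlerDifferential.ideal A B := by
  refine ⟨Algebra.TensorProduct.lmul' A r, ?_⟩
  rw [KaehlerDifferential.ideal, RingHom.mem_ker, map_sub, sub_eq_zero]
  exact (Algebra.TensorProduct.lmul'_apply_tmul (R := A) (Algebra.TensorProduct.lmul' A r) (1 : B)).trans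
    (mul_one _) |>.symm

theorem isDiffSmooth_iff :
    PP16.IsDiffSmooth A B ↔ Module.Projective B (KaehlerDifferential A B) ∧
      ∀ (ι : Type u) [Fintype ι], Function.Injective (canon B (KaehlerDifferential.ideal A B) ι) := by
  refine and_congr Iff.rfl ⟨fun h ι _ => ?_, fun h ι _ => ?_⟩
  · obtain ⟨φ, hφ, hbij⟩ := h ι
    have he : φ = canon B (KaehlerDifferential.ideal A B) ι :=
      eq_canon_of_span (S := B) (I := KaehlerDifferential.ideal A B) (del A B)
        (span_toCotangent_del A B) φ hφ
    rw [← he]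
    exact hbij.1
  · exact ⟨canon B (KaehlerDifferential.ideal A B) ι,
      fun b => canon_tprod B (KaehlerDifferential.ideal A B) ι fun i => del A B (b i),
      h ι, canon_surjective (exists_sub_mem_ideal A B)⟩

/-- A retraction with kernel `I` and formal smoothness give injectivity. -/
theorem canon_injective_of_formallySmooth {S R : Type u} [CommRing S] [CommRing R] [Algebra S R]
    [Algebra.FormallySmooth S R] (ε : R →ₐ[S] S) (I : Ideal R) (hI : RingHom.ker ε = I)
    [Module.Projective S I.Cotangent] (ι : Type u) [Fintype ι] :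
    Function.Injective (canon S I ι) := by
  obtain ⟨s, hs⟩ := Module.projective_def'.mp (inferInstance : Module.Projective S I.Cotangent)
  let Jm := MvPolynomial.idealOfVars I.Cotangent S
  let N := Fintype.card ι + 1
  let j : I.Cotangent →ₗ[S] MvPolynomial I.Cotangent S ⧸ Jm ^ N :=
    (Ideal.Quotient.mkₐ S (Jm ^ N)).toLinearMap ∘ₗ linForm ∘ₗ s
  let J := Jm.map (Ideal.Quotient.mk (Jm ^ N))
  have hJ : J ^ N = ⊥ := by rw [← Ideal.map_pow, Ideal.map_quotient_self]
  have hjJ : ∀ m, j m ∈ J := by
    intro m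
    refine Ideal.mem_map_of_mem _ ?_
    show Finsupp.linearCombination S MvPolynomial.X (s m) ∈ Jm
    rw [Finsupp.linearCombination_apply, Finsupp.sum]
    refine sum_mem fun x _ => ?_
    rw [MvPolynomial.smul_eq_C_mul]
    exact Ideal.mul_mem_left _ _ (Ideal.subset_span ⟨x, rfl⟩)
  -- first order map
  have hmemI : ∀ r, r - algebraMap S R (ε r) ∈ I := fun r => by
    rw [← hI, RingHom.mem_ker, map_sub, AlgHom.commutes]
    exact sub_self _
  let δ : R →ₗ[S] I.Cotangent :=
    (I.toCotangent.restrictScalars S).comp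
      ((LinearMap.id - (IsScalarTower.toAlgHom S S R).toLinearMap ∘ₗ ε.toLinearMap).codRestrict
        (I.restrictScalars S) hmemI)
  have hδ : ∀ a b, δ (a * b) = ε a • δ b + ε b • δ a := by
    intro a b
    show I.toCotangent (⟨a * b - algebraMap S R (ε (a * b)), hmemI _⟩ : ↥I) =
      ε a • I.toCotangent (⟨b - algebraMap S R (ε b), hmemI _⟩ : ↥I) +
      ε b • I.toCotangent (⟨a - algebraMap S R (ε a), hmemI _⟩ : ↥I)
    rw [← algebraMap_smul R (ε a), ← algebraMap_smul R (ε b), ← map_smul, ← map_smul, ← map_add,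
      Ideal.toCotangent_eq]
    show (a * b - algebraMap S R (ε (a * b))) -
        (algebraMap S R (ε a) * (b - algebraMap S R (ε b)) + algebraMap S R (ε b) * (a - algebraMap S R (ε a))) ∈ I ^ 2
    rw [map_mul, map_mul, show (a * b - algebraMap S R (ε a) * algebraMap S R (ε b)) -
        (algebraMap S R (ε a) * (b - algebraMap S R (ε b)) + algebraMap S R (ε b) * (a - algebraMap S R (ε a))) =
        (a - algebraMap S R (ε a)) * (b - algebraMap S R (ε b)) by ring, pow_two]
    exact Ideal.mul_mem_mul (hmemI a) (hmemI b)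
  have hδs : ∀ c, δ (algebraMap S R c) = 0 := by
    intro c
    show I.toCotangent _ = 0
    rw [Ideal.toCotangent_eq_zero]
    show algebraMap S R c - algebraMap S R (ε (algebraMap S R c)) ∈ I ^ 2
    rw [AlgHom.commutes, Algebra.algebraMap_self_apply, sub_self]
    exact zero_mem _
  let θ0 : R →ₗ[S] MvPolynomial I.Cotangent S ⧸ Jm ^ N :=
    (Algebra.linearMap S (MvPolynomial I.Cotangent S ⧸ Jm ^ N)) ∘ₗ ε.toLinearMap + j ∘ₗ δ
  let g : R →ₐ[S] (MvPolynomial I.Cotangent S ⧸ Jm ^ N) ⧸ J ^ 2 :=
    AlgHom.ofLinearMap ((Ideal.Quotient.mkₐ S (J ^ 2)).toLinearMap ∘ₗ θ0)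
      (by
        show Ideal.Quotient.mk (J ^ 2) (algebraMap S _ (ε 1) + j (δ 1)) = 1
        have h1 : δ 1 = 0 := by simpa using hδs 1
        rw [map_one, h1, map_zero, map_one, add_zero, map_one])
      (by
        intro a b
        show Ideal.Quotient.mk (J ^ 2) (algebraMap S _ (ε (a * b)) + j (δ (a * b))) =
          Ideal.Quotient.mk (J ^ 2) (algebraMap S _ (ε a) + j (δ a)) *
            Ideal.Quotient.mk (J ^ 2) (algebraMap S _ (ε b) + j (δ b))
        have hs' : ∀ (c : S) (q : MvPolynomial I.Cotangent S ⧸ Jm ^ N), c • q = algebraMap S _ c * q :=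
          fun c q => Algebra.smul_def c q
        rw [← map_mul, Ideal.Quotient.eq, hδ, map_add, map_smul, map_smul, map_mul, map_mul]
        erw [hs', hs']
        rw [show ∀ x y p q : MvPolynomial I.Cotangent S ⧸ Jm ^ N,
          (x * y + (x * q + y * p)) - (x + p) * (y + q) = -(p * q) from fun x y p q => by ring,
          neg_mem_iff, pow_two]
        exact Ideal.mul_mem_mul (hjJ _) (hjJ _))
  let θ := Algebra.FormallySmooth.lift (A := R) (J ^ 2)
    ⟨N, by rw [← pow_mul, mul_comm, pow_mul, hJ, Submodule.zero_eq_bot, pow_two, Submodule.bot_mul]⟩ g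
  have hθ : ∀ r, θ r - (algebraMap S _ (ε r) + j (δ r)) ∈ J ^ 2 := fun r =>
    Ideal.Quotient.eq.mp (Algebra.FormallySmooth.mk_lift (J ^ 2) _ g r)
  have hδI : ∀ x : ↥I, δ (x : R) = I.toCotangent x := by
    intro x
    show I.toCotangent _ = I.toCotangent x
    congr 1
    ext
    show (x : R) - algebraMap S R (ε (x : R)) = x
    have : ε (x : R) = 0 := RingHom.mem_ker.mp (show (x : R) ∈ RingHom.ker ε by rw [hI]; exact x.2)
    rw [this, map_zero, sub_zero]
  have hεI : ∀ x ∈ I, ε x = 0 := fun x hx => by rwa [← hI, RingHom.mem_ker] at hx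
  refine canon_injective_of_hom θ J hJ (fun x hx => ?_) j (fun x => ?_)
    (prodMap_mk_injective s (Finsupp.linearCombination S id) hs N (Nat.lt_succ_self _))
  · have h := hθ x
    rw [hεI x hx, map_zero, zero_add] at h
    have h2 := add_mem (Ideal.pow_le_self two_ne_zero h) (hjJ (δ x))
    rwa [sub_add_cancel] at h2
  · have h := hθ x
    rw [hεI _ x.2, map_zero, zero_add, hδI] at h
    exact h

theorem isDiffSmooth_of_formallySmooth [Algebra.FormallySmooth A B] : PP16.IsDiffSmooth A B := by
  rw [isDiffSmooth_iff]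
  refine ⟨inferInstance, fun ι _ => ?_⟩
  let ε : B ⊗[A] B →ₐ[B] B := Algebra.TensorProduct.lift (AlgHom.id B B) (AlgHom.id A B) fun _ _ => Commute.all _ _
  haveI : Module.Projective B (KaehlerDifferential.ideal A B).Cotangent :=
    (inferInstance : Module.Projective B (KaehlerDifferential A B))
  refine canon_injective_of_formallySmooth ε _ ?_ ι
  rfl

end Groth.Agent.SymGr
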