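import Groth.Agent.Lib.SymGr.SymPow
import Groth.Agent.Lib.PP16.Monomial
import Groth.Agent.Lib.SymGr.Canon

/-!
# Symmetric powers over a ring of modules over a quotient ring
-/

universe u

namespace Groth.Agent.SymGr

open TensorProduct

variable {R C : Type u} [CommRing R] [CommRing C] [Algebra R C] {ι : Type u} [Fintype ι] {σ : Type u}

/-- Scalars killing the module kill a positive symmetric power. -/
theorem smul_sym_eq_zero [Nonempty ι] {M : Type u} [AddCommGroup M] [Module R M] (r : R)
    (hr : ∀ m : M, r • m = 0) (x : Sym[R] ι M) : r • x = 0 := by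
  classical
  have h : (r • LinearMap.id : Sym[R] ι M →ₗ[R] Sym[R] ι M) = 0 := hom_ext fun y => by
    obtain ⟨i⟩ := ‹Nonempty ι›
    rw [LinearMap.smul_apply, LinearMap.id_apply, LinearMap.zero_apply]
    conv_lhs => rw [← Function.update_eq_self i y]
    rw [← MultilinearMap.map_update_smul, hr, MultilinearMap.map_update_zero]
  exact LinearMap.congr_fun h x

theorem map_surjective {M N : Type u} [AddCommGroup M] [Module R M] [AddCommGroup N] [Module R N]
    (f : M →ₗ[R] N) (hf : Function.Surjective f) : Function.Surjective (map (ι := ι) f) := by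
  rw [← LinearMap.range_eq_top, eq_top_iff, ← SymmetricPower.span_tprod_eq_top R ι, Submodule.span_le]
  rintro _ ⟨x, rfl⟩
  choose y hy using fun i => hf (x i)
  exact ⟨SymmetricPower.tprod R y, by rw [map_tprod]; simp only [hy]⟩

theorem map_comp {M N L : Type u} [AddCommGroup M] [Module R M] [AddCommGroup N] [Module R N]
    [AddCommGroup L] [Module R L] (g : N →ₗ[R] L) (f : M →ₗ[R] N) :
    map (ι := ι) (g ∘ₗ f) = map g ∘ₗ map f :=
  hom_ext fun x => by
    simp only [LinearMap.comp_apply, map_tprod]

variable (R) in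
/-- The linear form map over the quotient, as a map of `R`-modules. -/
noncomputable def linFormQ : (σ →₀ C) →ₗ[R] MvPolynomial σ C :=
  (linForm (R := C) (σ := σ)).restrictScalars R

variable (R C σ) in
/-- Coefficientwise reduction. -/
noncomputable def redCoeff : (σ →₀ R) →ₗ[R] (σ →₀ C) :=
  Finsupp.mapRange.linearMap (Algebra.linearMap R C)

theorem prodMap_linFormQ_map (x : Sym[R] ι (σ →₀ R)) :
    prodMap (linFormQ R) (map (redCoeff R C σ) x) =
      MvPolynomial.map (algebraMap R C) (prodMap linForm x) := by
  have key : ∀ y : σ →₀ R, linFormQ R (redCoeff R C σ y) =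
      MvPolynomial.mapAlgHom (Algebra.ofId R C) (linForm y) := by
    intro y
    induction y using Finsupp.induction_linear with
    | zero => simp
    | add a b ha hb => simp only [map_add, ha, hb]
    | single s a =>
      simp [linFormQ, redCoeff, linForm, MvPolynomial.smul_eq_C_mul, MvPolynomial.mapAlgHom_apply,
        Algebra.smul_def]
  have h : (prodMap (ι := ι) (linFormQ R (C := C) (σ := σ))) ∘ₗ map (redCoeff R C σ) =
      (MvPolynomial.mapAlgHom (σ := σ) (Algebra.ofId R C)).toLinearMap ∘ₗ prodMap linForm := hom_ext fun z => by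
    simp only [LinearMap.comp_apply, map_tprod, prodMap_tprod, key, AlgHom.toLinearMap_apply, map_prod]
  exact LinearMap.congr_fun h x

theorem redCoeff_surjective (hC : Function.Surjective (algebraMap R C)) :
    Function.Surjective (redCoeff R C σ) :=
  Finsupp.mapRange_surjective (Algebra.linearMap R C) (map_zero _) hC

theorem prodMap_linFormQ_injective [Nonempty ι] (hC : Function.Surjective (algebraMap R C)) :
    Function.Injective (prodMap (ι := ι) (linFormQ R (C := C) (σ := σ))) := by
  refine (injective_iff_map_eq_zero _).mpr fun y hy => ?_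
  obtain ⟨x, rfl⟩ := map_surjective (ι := ι) _ (redCoeff_surjective (σ := σ) hC) y
  rw [prodMap_linFormQ_map] at hy
  obtain ⟨Ψ, hΨ⟩ := exists_leftInverse_prodMap_linForm (R := R) (ι := ι) (σ := σ)
  have hx : x = Ψ (prodMap linForm x) := (LinearMap.congr_fun hΨ x).symm
  generalize prodMap linForm x = P at hx hy
  subst hx
  rw [P.as_sum, map_sum, map_sum]
  refine Finset.sum_eq_zero fun d _ => ?_
  have hd : algebraMap R C (MvPolynomial.coeff d P) = 0 := by
    rw [← MvPolynomial.coeff_map, hy, MvPolynomial.coeff_zero]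
  rw [show MvPolynomial.monomial d (MvPolynomial.coeff d P) =
      MvPolynomial.coeff d P • MvPolynomial.monomial d (1 : R) by
    rw [MvPolynomial.smul_monomial, smul_eq_mul, mul_one], map_smul, map_smul]
  refine smul_sym_eq_zero _ (fun z => ?_) _
  ext s
  rw [Finsupp.smul_apply, Algebra.smul_def, hd, zero_mul, Finsupp.zero_apply]

theorem prodMap_linFormQ_isHomogeneous (hC : Function.Surjective (algebraMap R C))
    (y : Sym[R] ι (σ →₀ C)) :
    MvPolynomial.IsHomogeneous (prodMap (linFormQ R) y) (Fintype.card ι) := by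
  obtain ⟨x, rfl⟩ := map_surjective (ι := ι) _ (redCoeff_surjective (σ := σ) hC) y
  rw [prodMap_linFormQ_map]
  intro d hd
  rw [MvPolynomial.coeff_map] at hd
  have h := prodMap_linForm_isHomogeneous x d fun h => hd (by rw [h, map_zero])
  rwa [show (1 : σ → ℕ) = fun _ => 1 from rfl, ← Finsupp.degree_eq_weight_one]

theorem homogeneous_mem_range_linFormQ (hC : Function.Surjective (algebraMap R C)) (f : MvPolynomial σ C)
    (hf : MvPolynomial.IsHomogeneous f (Fintype.card ι)) :
    ∃ y : Sym[R] ι (σ →₀ C), prodMap (linFormQ R) y = f := by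
  classical
  choose g hg using hC
  let P : MvPolynomial σ R := ∑ d ∈ f.support, MvPolynomial.monomial d (g (MvPolynomial.coeff d f))
  have hP : MvPolynomial.IsHomogeneous P (Fintype.card ι) :=
    MvPolynomial.IsHomogeneous.sum _ _ _ fun d hd =>
      MvPolynomial.isHomogeneous_monomial _ (by
        rw [Finsupp.degree_eq_weight_one]; exact hf (MvPolynomial.mem_support_iff.mp hd))
  have hmap : MvPolynomial.map (algebraMap R C) P = f := by
    conv_rhs => rw [f.as_sum]
    simp only [P, map_sum, MvPolynomial.map_monomial, hg]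
  obtain ⟨x, hx⟩ := PP.homogeneous_mem_range ι P hP
  exact ⟨map (redCoeff R C σ) x, by rw [prodMap_linFormQ_map, hx, hmap]⟩

/-- Injectivity of the product map into truncated polynomials over a quotient ring. -/
theorem prodMap_mk_injectiveQ [Nonempty ι] (hC : Function.Surjective (algebraMap R C)) {M : Type u}
    [AddCommGroup M] [Module R M] [Module C M] [IsScalarTower R C M] (s : M →ₗ[C] (σ →₀ C))
    (p : (σ →₀ C) →ₗ[C] M) (hps : p ∘ₗ s = LinearMap.id) (m : ℕ) (hm : Fintype.card ι < m) :
    Function.Injective (prodMap (ι := ι) ((Ideal.Quotient.mkₐ R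
      (MvPolynomial.idealOfVars σ C ^ m)).toLinearMap ∘ₗ linFormQ R ∘ₗ s.restrictScalars R)) := by
  have h : prodMap (ι := ι) ((Ideal.Quotient.mkₐ R
      (MvPolynomial.idealOfVars σ C ^ m)).toLinearMap ∘ₗ linFormQ R ∘ₗ s.restrictScalars R) =
      (Ideal.Quotient.mkₐ R (MvPolynomial.idealOfVars σ C ^ m)).toLinearMap ∘ₗ
        prodMap (linFormQ R) ∘ₗ map (s.restrictScalars R) := hom_ext fun x => by
    simp only [LinearMap.comp_apply, prodMap_tprod, map_tprod]
    exact (map_prod (Ideal.Quotient.mkₐ R (MvPolynomial.idealOfVars σ C ^ m))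
      (fun i => linFormQ R (s.restrictScalars R (x i))) Finset.univ).symm
  rw [← LinearMap.ker_eq_bot, LinearMap.ker_eq_bot']
  intro x hx
  rw [h] at hx
  have hmem : prodMap (linFormQ R) (map (s.restrictScalars R) x) ∈ MvPolynomial.idealOfVars σ C ^ m :=
    Ideal.Quotient.eq_zero_iff_mem.mp hx
  have h0 : prodMap (linFormQ R) (map (s.restrictScalars R) x) = 0 := by
    ext d
    rw [MvPolynomial.coeff_zero]
    by_contra hd
    have h1 := prodMap_linFormQ_isHomogeneous hC _ hd
    rw [show (1 : σ → ℕ) = fun _ => 1 from rfl, ← Finsupp.degree_eq_weight_one] at h1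
    exact hd ((MvPolynomial.mem_pow_idealOfVars_iff' m _).mp hmem d (by omega))
  have h1 : map (s.restrictScalars R) x = 0 := prodMap_linFormQ_injective hC (by rw [h0, map_zero])
  exact map_injective_of_leftInverse (s.restrictScalars R) (p.restrictScalars R)
    (LinearMap.ext fun v => LinearMap.congr_fun hps v) (by rw [h1, map_zero])

end Groth.Agent.SymGr
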