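import Groth.Prelude.Def_PP16
import Groth.Prelude.Def_CAlgX
import Groth.Agent.Lib.SymGr.Quot
import Groth.Agent.Lib.AdicSmooth.Deriv
import Mathlib.RingTheory.Smooth.Basic
import Mathlib.RingTheory.Smooth.Quotient
import Mathlib.RingTheory.Ideal.Cotangent

/-!
# Adic formal smoothness and symmetric powers of the conormal module
-/

universe u
open scoped TensorProduct

namespace Groth.Agent.SymGr

theorem symGrBijective_iff {R : Type u} [CommRing R] (J : Ideal R) :
    PP16.SymGrBijective R J ↔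
      ∀ (ι : Type u) [Fintype ι] [Nonempty ι], Function.Injective (canon R J ι) := by
  refine ⟨fun h ι _ _ => ?_, fun h ι _ _ => ?_⟩
  · obtain ⟨φ, hφ, hbij⟩ := h ι
    have he : φ = canon R J ι := hom_ext fun m => by
      obtain ⟨x, rfl⟩ : ∃ x : ι → ↥J, (fun i => J.toCotangent (x i)) = m :=
        ⟨fun i => rep J (m i), funext fun i => toCotangent_rep J _⟩
      exact (hφ x).trans (canon_tprod R J ι x).symm
    rw [← he]
    exact hbij.1
  · exact ⟨canon R J ι, fun x => canon_tprod R J ι x, h ι,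
      canon_surjective fun r => ⟨r, by simp⟩⟩

/-- Injectivity criterion with a ring map that is the structure map modulo `K`. -/
theorem canon_injective_of_ringHom {R Q : Type u} [CommRing R] [CommRing Q] [Algebra R Q] {ι : Type u}
    [Fintype ι] (I : Ideal R) (θ : R →+* Q) (K : Ideal Q) (hK : K ^ (Fintype.card ι + 1) = ⊥)
    (hθ : ∀ x ∈ I, θ x ∈ K) (halg : ∀ r, θ r - algebraMap R Q r ∈ K) (j : I.Cotangent →ₗ[R] Q)
    (hj : ∀ x : ↥I, θ x - j (I.toCotangent x) ∈ K ^ 2) (hinj : Function.Injective (prodMap (ι := ι) j)) :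
    Function.Injective (canon R I ι) := by
  have hmap : ∀ n, ∀ x ∈ I ^ n, θ x ∈ K ^ n := fun n x hx => by
    have h : (I.map θ) ^ n ≤ K ^ n := Ideal.pow_right_mono (Ideal.map_le_iff_le_comap.mpr hθ) n
    rw [← Ideal.map_pow] at h
    exact h (Ideal.mem_map_of_mem θ hx)
  let pre : ↥((I ^ Fintype.card ι).restrictScalars R) →ₗ[R] Q :=
    { toFun := fun x => θ x.1
      map_add' := fun x y => θ.map_add x.1 y.1
      map_smul' := fun r x => by
        show θ (r * x.1) = r • θ x.1
        rw [map_mul, Algebra.smul_def, ← sub_eq_zero, ← sub_mul, ← Submodule.mem_bot Q, ← hK, pow_succ']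
        exact Ideal.mul_mem_mul (halg r) (hmap _ _ x.2) }
  have hpre : ((I ^ (Fintype.card ι + 1)).restrictScalars R).comap
      ((I ^ Fintype.card ι).restrictScalars R).subtype ≤ LinearMap.ker pre := by
    intro x hx
    show θ x.1 = 0
    rw [← Submodule.mem_bot Q, ← hK]
    exact hmap _ _ hx
  let Ψ := Submodule.liftQ _ pre hpre
  have h : Ψ ∘ₗ canon R I ι = prodMap j := hom_ext fun m => by
    classical
    obtain ⟨x, rfl⟩ : ∃ x : ι → ↥I, (fun i => I.toCotangent (x i)) = m :=
      ⟨fun i => rep I (m i), funext fun i => toCotangent_rep I _⟩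
    refine ((congrArg Ψ (canon_tprod R I ι x)).trans ?_).trans (prodMap_tprod j _).symm
    show θ (∏ i, (x i : R)) = _
    rw [map_prod, ← sub_eq_zero, ← Submodule.mem_bot Q, ← hK]
    exact prod_sub_prod_mem K Finset.univ (fun i => θ (x i)) (fun i => j (I.toCotangent (x i)))
      (fun i _ => by
        have h1 := sub_mem (hθ _ (x i).2) (Ideal.pow_le_self two_ne_zero (hj (x i)))
        simpa using h1) fun i _ => hj (x i)
  intro a b hab
  exact hinj ((LinearMap.congr_fun h a).symm.trans ((congrArg Ψ hab).trans (LinearMap.congr_fun h b)))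

section

variable {A B : Type u} [CommRing A] [CommRing B] [Algebra A B] (J : Ideal B)

/-- A derivation into the conormal module extending the class map. -/
theorem exists_derivation_cotangent [Algebra.FormallySmooth A (B ⧸ J)] :
    ∃ δ : Derivation A B J.Cotangent, ∀ x : ↥J, δ (x : B) = J.toCotangent x := by
  let π : B ⧸ J ^ 2 →ₐ[A] B ⧸ J := Ideal.Quotient.factorₐ A (Ideal.pow_le_self two_ne_zero)
  have hπ : ∀ b, π (Ideal.Quotient.mk _ b) = Ideal.Quotient.mk J b := fun b => rfl
  have hπs : Function.Surjective π := fun y => by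
    obtain ⟨b, rfl⟩ := Ideal.Quotient.mk_surjective y
    exact ⟨_, hπ b⟩
  have hker : RingHom.ker π.toRingHom ≤ J.map (Ideal.Quotient.mk (J ^ 2)) := fun y hy => by
    obtain ⟨b, rfl⟩ := Ideal.Quotient.mk_surjective y
    exact Ideal.mem_map_of_mem _ (Ideal.Quotient.eq_zero_iff_mem.mp ((hπ b).symm.trans hy))
  have hnil : IsNilpotent (RingHom.ker π.toRingHom) := ⟨2, le_bot_iff.mp
    ((Ideal.pow_right_mono hker 2).trans (by rw [← Ideal.map_pow, Ideal.map_quotient_self]))⟩
  let σ : B ⧸ J →ₐ[A] B ⧸ J ^ 2 := Algebra.FormallySmooth.liftOfSurjective (AlgHom.id A _) π hπs hnil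
  have hσ : ∀ c, π (σ c) = c :=
    Algebra.FormallySmooth.liftOfSurjective_apply (AlgHom.id A _) π hπs hnil
  let i2 := J.cotangentToQuotientSquare
  let w : B → B ⧸ J ^ 2 := fun b => Ideal.Quotient.mk _ b - σ (Ideal.Quotient.mk J b)
  have hw : ∀ b, ∃ c : J.Cotangent, i2 c = w b := fun b => by
    obtain ⟨r, hr⟩ := Ideal.Quotient.mk_surjective (w b)
    have hrJ : r ∈ J := by
      rw [← Ideal.Quotient.eq_zero_iff_mem, ← hπ r, hr]
      show π (_ - _) = 0
      rw [map_sub, hσ, hπ, sub_self]
    exact ⟨J.toCotangent ⟨r, hrJ⟩, hr⟩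
  choose d hd using hw
  have hmul : ∀ c c', i2 c * i2 c' = 0 := fun c c' => by
    obtain ⟨⟨r, hr⟩, rfl⟩ := J.toCotangent_surjective c
    obtain ⟨⟨r', hr'⟩, rfl⟩ := J.toCotangent_surjective c'
    show Ideal.Quotient.mk (J ^ 2) r * Ideal.Quotient.mk (J ^ 2) r' = 0
    rw [← map_mul, Ideal.Quotient.eq_zero_iff_mem, pow_two]
    exact Ideal.mul_mem_mul hr hr'
  have hinj := J.cotangentToQuotientSquare_injective
  have hsmul : ∀ (b : B) c, i2 (b • c) = Ideal.Quotient.mk _ b * i2 c := fun b c => by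
    rw [map_smul, Algebra.smul_def]; rfl
  refine ⟨{ toFun := d
            map_add' := fun x y => hinj ?_
            map_smul' := fun a x => hinj ?_
            map_one_eq_zero' := hinj ?_
            leibniz' := fun x y => hinj ?_ }, fun x => hinj ?_⟩
  · show i2 _ = i2 _
    rw [map_add i2, hd, hd, hd]
    simp only [w, map_add]
    ring
  · show i2 _ = i2 (a • d x)
    rw [hd, ← algebraMap_smul B a (d x), hsmul, hd]
    simp only [w, Algebra.smul_def, map_mul, AlgHom.commutes,
      show Ideal.Quotient.mk J (algebraMap A B a) = algebraMap A _ a from rfl]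
    rw [show Ideal.Quotient.mk (J ^ 2) (algebraMap A B a) = algebraMap A _ a from rfl]
    ring
  · show i2 (d 1) = i2 0
    rw [hd, map_zero i2]
    simp [w]
  · show i2 (d (x * y)) = i2 (x • d y + y • d x)
    rw [map_add i2, hsmul, hsmul, hd, hd, hd]
    have h2 := hmul (d x) (d y)
    rw [hd, hd] at h2
    simp only [w, map_mul] at h2 ⊢
    linear_combination -h2
  · show i2 (d x) = Ideal.Quotient.mk (J ^ 2) (x : B)
    rw [hd]
    simp [w, Ideal.Quotient.eq_zero_iff_mem.mpr x.2]

theorem projective_cotangent_of_isAdicFormallySmooth [Algebra.FormallySmooth A (B ⧸ J)]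
    (h : CAlgX.IsAdicFormallySmooth A B J) : Module.Projective (B ⧸ J) J.Cotangent := by
  obtain ⟨δ, hδ⟩ := exists_derivation_cotangent (A := A) J
  let p : (J.Cotangent →₀ B ⧸ J) →ₗ[B] J.Cotangent :=
    (Finsupp.linearCombination (B ⧸ J) id).restrictScalars B
  have hkill : ∀ x ∈ J ^ 1, ∀ v : J.Cotangent →₀ B ⧸ J, x • v = 0 := fun x hx v => by
    ext i
    rw [Finsupp.smul_apply, Algebra.smul_def, show algebraMap B (B ⧸ J) x = 0 from
      Ideal.Quotient.eq_zero_iff_mem.mpr (by simpa using hx), zero_mul, Finsupp.zero_apply]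
  obtain ⟨D, hD⟩ := AdicSmooth.derivation_lift h 1 hkill p
    (fun c => ⟨Finsupp.single c 1, by simp [p]⟩) δ
  let res : ↥J →ₗ[B] (J.Cotangent →₀ B ⧸ J) :=
    { toFun := fun x => D (x : B)
      map_add' := fun x y => map_add D _ _
      map_smul' := fun b x => by
        show D (b * (x : B)) = b • D (x : B)
        rw [Derivation.leibniz, hkill _ (by simp) (D b), add_zero] }
  have hle : J • (⊤ : Submodule B ↥J) ≤ LinearMap.ker res := by
    rw [Submodule.smul_le]
    intro b hb x _
    rw [LinearMap.mem_ker, map_smul]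
    exact hkill b (by simpa using hb) _
  let s0 : J.Cotangent →ₗ[B] (J.Cotangent →₀ B ⧸ J) := Submodule.liftQ _ res hle
  let s : J.Cotangent →ₗ[B ⧸ J] (J.Cotangent →₀ B ⧸ J) :=
    LinearMap.extendScalarsOfSurjective Ideal.Quotient.mk_surjective s0
  refine Module.projective_def'.mpr ⟨s, LinearMap.ext fun c => ?_⟩
  obtain ⟨x, rfl⟩ := J.toCotangent_surjective c
  exact (hD (x : B)).trans (hδ x)

theorem exists_lift_linear (h : CAlgX.IsAdicFormallySmooth A B J) (δ : Derivation A B J.Cotangent)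
    (hδ : ∀ x : ↥J, δ (x : B) = J.toCotangent x) {T : Type u} [CommRing T] [Algebra A T] [Algebra B T]
    [IsScalarTower A B T] (h0 : ∀ x ∈ J, algebraMap B T x = 0) (K : Ideal T) (N : ℕ) (hK : K ^ N = ⊥)
    (j : J.Cotangent →ₗ[B] T) (hjK : ∀ m, j m ∈ K) :
    ∃ θ : B →ₐ[A] T, (∀ b, θ b - algebraMap B T b ∈ K) ∧
      ∀ b, θ b - (algebraMap B T b + j (δ b)) ∈ K ^ 2 := by
  let g : B →ₐ[A] T ⧸ K ^ 2 :=
    { toFun := fun b => Ideal.Quotient.mk _ (algebraMap B T b + j (δ b))
      map_one' := by simp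
      map_mul' := fun x y => by
        rw [← map_mul, Ideal.Quotient.eq, Derivation.leibniz, map_add, map_smul, map_smul, map_mul,
          Algebra.smul_def, Algebra.smul_def]
        rw [show algebraMap B T x * algebraMap B T y + (algebraMap B T x * j (δ y) + algebraMap B T y * j (δ x)) -
          (algebraMap B T x + j (δ x)) * (algebraMap B T y + j (δ y)) = -(j (δ x) * j (δ y)) by ring,
          neg_mem_iff, pow_two]
        exact Ideal.mul_mem_mul (hjK _) (hjK _)
      map_zero' := by simp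
      map_add' := fun x y => by
        rw [← map_add (Ideal.Quotient.mk (K ^ 2))]
        refine congrArg _ ?_
        rw [map_add, map_add, map_add]
        ring
      commutes' := fun a => by
        rw [Derivation.map_algebraMap, map_zero, add_zero, ← IsScalarTower.algebraMap_apply]
        rfl }
  have hg : ∀ x ∈ J ^ 2, g x = 0 := fun x hx => by
    have hxJ := Ideal.pow_le_self two_ne_zero hx
    show Ideal.Quotient.mk _ (algebraMap B T x + j (δ x)) = 0
    rw [show δ x = J.toCotangent ⟨x, hxJ⟩ from hδ ⟨x, hxJ⟩, (J.toCotangent_eq_zero ⟨x, hxJ⟩).mpr hx,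
      map_zero j, add_zero, h0 x hxJ, map_zero]
  obtain ⟨θ, hθ⟩ := AdicSmooth.exists_lift_of_surjective h (Ideal.Quotient.mkₐ A (K ^ 2))
    Ideal.Quotient.mk_surjective
    ⟨N, le_bot_iff.mp ((Ideal.pow_right_mono (by
      intro x hx; exact Ideal.pow_le_self two_ne_zero (Ideal.Quotient.eq_zero_iff_mem.mp hx)) _).trans hK.le)⟩
    g ⟨2, hg⟩
  have hθ' : ∀ b, θ b - (algebraMap B T b + j (δ b)) ∈ K ^ 2 := fun b =>
    Ideal.Quotient.eq.mp (AlgHom.congr_fun hθ b)
  refine ⟨θ, fun b => ?_, hθ'⟩
  have h2 := add_mem (Ideal.pow_le_self two_ne_zero (hθ' b)) (hjK (δ b))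
  rwa [show θ b - (algebraMap B T b + j (δ b)) + j (δ b) = θ b - algebraMap B T b by ring] at h2

theorem map_mk_pow_eq_bot {R : Type u} [CommRing R] (I : Ideal R) (n : ℕ) :
    (I.map (Ideal.Quotient.mk (I ^ n))) ^ n = ⊥ := by
  rw [← Ideal.map_pow, Ideal.map_quotient_self]

theorem canon_injective_aux (h : CAlgX.IsAdicFormallySmooth A B J) (δ : Derivation A B J.Cotangent)
    (hδ : ∀ x : ↥J, δ (x : B) = J.toCotangent x) {C : Type u} [CommRing C] [Algebra A C] [Algebra B C]
    [IsScalarTower A B C] (hC : Function.Surjective (algebraMap B C)) (hJ : ∀ x ∈ J, algebraMap B C x = 0)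
    [Module C J.Cotangent] [IsScalarTower B C J.Cotangent] [Module.Projective C J.Cotangent]
    (ι : Type u) [Fintype ι] [Nonempty ι] : Function.Injective (canon B J ι) := by
  obtain ⟨s, hs⟩ := Module.projective_def'.mp (inferInstance : Module.Projective C J.Cotangent)
  let j : J.Cotangent →ₗ[B] MvPolynomial J.Cotangent C ⧸
      MvPolynomial.idealOfVars J.Cotangent C ^ (Fintype.card ι + 1) :=
    (Ideal.Quotient.mkₐ B _).toLinearMap ∘ₗ linFormQ B ∘ₗ s.restrictScalars B
  have hjK : ∀ m, j m ∈ (MvPolynomial.idealOfVars J.Cotangent C).map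
      (Ideal.Quotient.mk (MvPolynomial.idealOfVars J.Cotangent C ^ (Fintype.card ι + 1))) := by
    intro m
    refine Ideal.mem_map_of_mem _ ?_
    show Finsupp.linearCombination C MvPolynomial.X (s m) ∈ _
    rw [Finsupp.linearCombination_apply, Finsupp.sum]
    refine sum_mem fun x _ => ?_
    rw [MvPolynomial.smul_eq_C_mul]
    exact Ideal.mul_mem_left _ _ (Ideal.subset_span ⟨x, rfl⟩)
  have h0 : ∀ x ∈ J, algebraMap B (MvPolynomial J.Cotangent C ⧸
      MvPolynomial.idealOfVars J.Cotangent C ^ (Fintype.card ι + 1)) x = 0 := fun x hx => by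
    rw [IsScalarTower.algebraMap_apply B C (MvPolynomial J.Cotangent C ⧸
      MvPolynomial.idealOfVars J.Cotangent C ^ (Fintype.card ι + 1)), hJ x hx, map_zero]
  obtain ⟨θ, halg, hθ⟩ := exists_lift_linear J h δ hδ h0 _ _
    (map_mk_pow_eq_bot (MvPolynomial.idealOfVars J.Cotangent C) (Fintype.card ι + 1)) j hjK
  refine canon_injective_of_ringHom J θ.toRingHom _
    (map_mk_pow_eq_bot (MvPolynomial.idealOfVars J.Cotangent C) (Fintype.card ι + 1))
    (fun x hx => ?_) halg j (fun x => ?_) (prodMap_mk_injectiveQ hC s _ hs _ (Nat.lt_succ_self _))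
  · simpa [h0 x hx] using halg x
  · simpa [h0 _ x.2, hδ x] using hθ (x : B)

theorem canon_injective_of_isAdicFormallySmooth [Algebra.FormallySmooth A (B ⧸ J)]
    (h : CAlgX.IsAdicFormallySmooth A B J) (ι : Type u) [Fintype ι] [Nonempty ι] :
    Function.Injective (canon B J ι) := by
  haveI := projective_cotangent_of_isAdicFormallySmooth J h
  obtain ⟨δ, hδ⟩ := exists_derivation_cotangent (A := A) J
  exact canon_injective_aux J h δ hδ (C := B ⧸ J) Ideal.Quotient.mk_surjective
    (fun x hx => Ideal.Quotient.eq_zero_iff_mem.mpr hx) ι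

theorem isAdicFormallySmooth_of_projective_of_injective [Algebra.FormallySmooth A (B ⧸ J)]
    [hP : Module.Projective (B ⧸ J) J.Cotangent]
    (hinj : ∀ (ι : Type u) [Fintype ι] [Nonempty ι], Function.Injective (canon B J ι)) :
    CAlgX.IsAdicFormallySmooth A B J := by
  intro E _ _ N hN ψ hψ
  obtain ⟨k0, hk0⟩ := hψ
  obtain ⟨k, hk, hk1⟩ : ∃ k, (∀ x ∈ J ^ k, ψ x = 0) ∧ 1 ≤ k :=
    ⟨k0 + 1, fun x hx => hk0 x (Ideal.pow_le_pow_right (Nat.le_succ k0) hx), Nat.succ_pos k0⟩
  let m := k + k
  let J' : Ideal (B ⧸ J ^ m) := J.map (Ideal.Quotient.mk _)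
  have hJm : J' ^ m = ⊥ := by rw [← Ideal.map_pow, Ideal.map_quotient_self]
  let π : B ⧸ J ^ m →ₐ[A] B ⧸ J := Ideal.Quotient.factorₐ A (Ideal.pow_le_self (by omega))
  have hπ : ∀ b, π (Ideal.Quotient.mk _ b) = Ideal.Quotient.mk J b := fun b => rfl
  have hπs : Function.Surjective π := fun y => by
    obtain ⟨b, rfl⟩ := Ideal.Quotient.mk_surjective y
    exact ⟨_, hπ b⟩
  have hker : RingHom.ker π.toRingHom ≤ J' := fun y hy => by
    obtain ⟨b, rfl⟩ := Ideal.Quotient.mk_surjective y
    exact Ideal.mem_map_of_mem _ (Ideal.Quotient.eq_zero_iff_mem.mp ((hπ b).symm.trans hy))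
  have hnil : IsNilpotent (RingHom.ker π.toRingHom) :=
    ⟨m, le_bot_iff.mp ((Ideal.pow_right_mono hker m).trans hJm.le)⟩
  let σ : B ⧸ J →ₐ[A] B ⧸ J ^ m := Algebra.FormallySmooth.liftOfSurjective (AlgHom.id A _) π hπs hnil
  have hσ : ∀ c, π (σ c) = c :=
    Algebra.FormallySmooth.liftOfSurjective_apply (AlgHom.id A _) π hπs hnil
  letI : Algebra (B ⧸ J) (B ⧸ J ^ m) := σ.toRingHom.toAlgebra
  haveI : IsScalarTower A (B ⧸ J) (B ⧸ J ^ m) :=
    IsScalarTower.of_algebraMap_eq fun a => (σ.commutes a).symm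
  have hσb : ∀ b, algebraMap (B ⧸ J) (B ⧸ J ^ m) (Ideal.Quotient.mk J b) - Ideal.Quotient.mk _ b ∈ J' :=
    fun b => hker (by
      show π (σ (Ideal.Quotient.mk J b) - Ideal.Quotient.mk _ b) = 0
      rw [map_sub, hσ, hπ, sub_self])
  have hrep : ∀ y : ↥(J'.restrictScalars (B ⧸ J)), ∃ x : ↥J, Ideal.Quotient.mk (J ^ m) (x : B) = (y : B ⧸ J ^ m) :=
    fun y => by
      obtain ⟨x, hx, he⟩ := (Ideal.mem_map_iff_of_surjective _ Ideal.Quotient.mk_surjective).mp y.2
      exact ⟨⟨x, hx⟩, he⟩
  choose r hr using hrep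
  have hq : ∀ (y : ↥(J'.restrictScalars (B ⧸ J))) (x : ↥J), Ideal.Quotient.mk (J ^ m) (x : B) = y →
      J.toCotangent (r y) = J.toCotangent x := fun y x hx => by
    rw [Ideal.toCotangent_eq]
    exact Ideal.pow_le_pow_right (by omega) (Ideal.Quotient.eq.mp ((hr y).trans hx.symm))
  let q : ↥(J'.restrictScalars (B ⧸ J)) →ₗ[B ⧸ J] J.Cotangent :=
    { toFun := fun y => J.toCotangent (r y)
      map_add' := fun x y => by
        rw [← map_add]
        exact hq _ _ (by rw [Submodule.coe_add, map_add, hr, hr]; rfl)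
      map_smul' := fun c y => by
        obtain ⟨b, rfl⟩ := Ideal.Quotient.mk_surjective c
        show _ = b • J.toCotangent (r y)
        rw [← map_smul, ← sub_eq_zero, ← map_sub, Ideal.toCotangent_eq_zero]
        have h1 : Ideal.Quotient.mk (J ^ m) ((r (Ideal.Quotient.mk J b • y) : B) - b * (r y : B)) ∈ J' ^ 2 := by
          rw [map_sub, map_mul, hr, hr]
          show algebraMap (B ⧸ J) (B ⧸ J ^ m) (Ideal.Quotient.mk J b) * (y : B ⧸ J ^ m) -
            Ideal.Quotient.mk _ b * (y : B ⧸ J ^ m) ∈ _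
          rw [← sub_mul, pow_two]
          exact Ideal.mul_mem_mul (hσb b) y.2
        rw [← Ideal.map_pow, Ideal.mem_quotient_iff_mem_sup,
          sup_eq_left.mpr (Ideal.pow_le_pow_right (by omega : 2 ≤ m))] at h1
        exact h1 }
  have hqs : Function.Surjective q := fun c => by
    obtain ⟨x, rfl⟩ := J.toCotangent_surjective c
    exact ⟨⟨_, Ideal.mem_map_of_mem _ x.2⟩, hq _ x rfl⟩
  obtain ⟨lam, hlam⟩ := Module.projective_lifting_property q LinearMap.id hqs
  obtain ⟨s, hs⟩ := Module.projective_def'.mp hP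
  let p : (J.Cotangent →₀ B ⧸ J) →ₗ[B ⧸ J] J.Cotangent := Finsupp.linearCombination _ id
  let θ : MvPolynomial J.Cotangent (B ⧸ J) →ₐ[B ⧸ J] B ⧸ J ^ m :=
    MvPolynomial.aeval fun i => (lam i : B ⧸ J ^ m)
  have hθlin : ∀ z, θ (linForm z) = (lam (p z) : B ⧸ J ^ m) := fun z => by
    induction z using Finsupp.induction_linear with
    | zero => simp
    | add a b ha hb => simp only [map_add, ha, hb, Submodule.coe_add]
    | single i c => simp [linForm, θ, p, map_smul]
  let e : (J.Cotangent →₀ B ⧸ J) →ₗ[B ⧸ J] (J.Cotangent →₀ B ⧸ J) := s ∘ₗ p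
  have hee : ∀ z, e (e z) = e z := fun z => congrArg s (LinearMap.congr_fun hs (p z))
  let V := MvPolynomial.idealOfVars J.Cotangent (B ⧸ J)
  let En : MvPolynomial J.Cotangent (B ⧸ J) →ₐ[B ⧸ J] MvPolynomial J.Cotangent (B ⧸ J) :=
    MvPolynomial.aeval fun i => linForm (e (Finsupp.single i 1))
  have hEn : ∀ z, En (linForm z) = linForm (e z) := fun z => by
    induction z using Finsupp.induction_linear with
    | zero => simp
    | add a b ha hb => simp only [map_add, ha, hb]
    | single i c =>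
      rw [show Finsupp.single i c = c • Finsupp.single i (1 : B ⧸ J) by simp, map_smul, map_smul, map_smul,
        map_smul]
      simp [linForm, En]
  have hEE : En.comp En = En := MvPolynomial.algHom_ext fun i => by
    simp only [AlgHom.comp_apply, En, MvPolynomial.aeval_X]
    exact (hEn _).trans (by rw [hee])
  have hθE : θ.comp En = θ := MvPolynomial.algHom_ext fun i => by
    simp only [AlgHom.comp_apply, En, θ, MvPolynomial.aeval_X]
    refine (hθlin _).trans ?_
    show (lam (p (s (p (Finsupp.single i 1)))) : B ⧸ J ^ m) = _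
    rw [show p (s (p (Finsupp.single i 1))) = p (Finsupp.single i 1) from LinearMap.congr_fun hs _]
    simp [p]
  have hθV : V.map θ.toRingHom ≤ J' := by
    rw [Ideal.map_le_iff_le_comap]
    refine Ideal.span_le.mpr ?_
    rintro _ ⟨i, rfl⟩
    show θ (MvPolynomial.X i) ∈ J'
    simpa [θ] using (lam i).2
  have hEV : V.map En.toRingHom ≤ V := by
    rw [Ideal.map_le_iff_le_comap]
    refine Ideal.span_le.mpr ?_
    rintro _ ⟨i, rfl⟩
    show En (MvPolynomial.X i) ∈ V
    simp only [En, MvPolynomial.aeval_X, linForm, Finsupp.linearCombination_apply, Finsupp.sum]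
    refine sum_mem fun x _ => ?_
    rw [MvPolynomial.smul_eq_C_mul]
    exact Ideal.mul_mem_left _ _ (Ideal.subset_span ⟨x, rfl⟩)
  -- the degree `n` comparison
  have hdeg : ∀ (ι : Type u) [Fintype ι] (y : Sym[B] ι (J.Cotangent →₀ B ⧸ J)),
      ∃ (x : B) (hx : x ∈ J ^ Fintype.card ι),
        canon B J ι (map (p.restrictScalars B) y) = Submodule.Quotient.mk ⟨x, hx⟩ ∧
        θ (prodMap (linFormQ B) y) - Ideal.Quotient.mk _ x ∈ J' ^ (Fintype.card ι + 1) := by
    intro ι _ y
    have hy : y ∈ Submodule.span B (Set.range fun z : ι → (J.Cotangent →₀ B ⧸ J) => SymmetricPower.tprod B z) := by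
      rw [SymmetricPower.span_tprod_eq_top]; trivial
    induction hy using Submodule.span_induction with
    | mem _ hy =>
      obtain ⟨z, rfl⟩ := hy
      refine ⟨∏ i, (r (lam (p (z i))) : B), prod_mem J fun i => r (lam (p (z i))), ?_, ?_⟩
      · rw [map_tprod, show (fun i => p.restrictScalars B (z i)) = fun i => J.toCotangent (r (lam (p (z i)))) from
          funext fun i => (LinearMap.congr_fun hlam (p (z i))).symm, canon_tprod]
        rfl
      · rw [prodMap_tprod, map_prod, map_prod]
        simp only [linFormQ, LinearMap.coe_restrictScalars, hθlin, hr, sub_self, zero_mem]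
    | zero => exact ⟨0, zero_mem _, by rw [map_zero, map_zero]; rfl, by simp⟩
    | add a b _ _ iha ihb =>
      obtain ⟨x, hx, h1, h2⟩ := iha
      obtain ⟨x', hx', h1', h2'⟩ := ihb
      refine ⟨x + x', add_mem hx hx', by rw [map_add, map_add, h1, h1']; rfl, ?_⟩
      rw [map_add, map_add, map_add, add_sub_add_comm]
      exact add_mem h2 h2'
    | smul b a _ ih =>
      obtain ⟨x, hx, h1, h2⟩ := ih
      refine ⟨b * x, Ideal.mul_mem_left _ b hx, by rw [map_smul, map_smul, h1]; rfl, ?_⟩
      rw [map_smul, Algebra.smul_def, map_mul,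
        IsScalarTower.algebraMap_apply B (B ⧸ J) (MvPolynomial J.Cotangent (B ⧸ J)), AlgHom.commutes, map_mul]
      have h3 : θ (prodMap (linFormQ B) a) ∈ J' ^ Fintype.card ι := by
        have h4 : Ideal.Quotient.mk (J ^ m) x ∈ J' ^ Fintype.card ι := by
          rw [← Ideal.map_pow]; exact Ideal.mem_map_of_mem _ hx
        have h5 := add_mem (Ideal.pow_le_pow_right (Nat.le_succ _) h2) h4
        rwa [sub_add_cancel] at h5
      rw [show ∀ u v w z : B ⧸ J ^ m, u * v - w * z = (u - w) * v + w * (v - z) from fun u v w z => by ring]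
      refine add_mem ?_ (Ideal.mul_mem_left _ _ h2)
      rw [pow_succ']
      exact Ideal.mul_mem_mul (hσb b) h3
  have hC : Function.Surjective (algebraMap B (B ⧸ J)) := Ideal.Quotient.mk_surjective
  have hπθ : π.toRingHom.comp θ.toRingHom = MvPolynomial.constantCoeff := by
    refine MvPolynomial.ringHom_ext (fun c => ?_) fun i => ?_
    · show π (θ (algebraMap (B ⧸ J) _ c)) = _
      rw [AlgHom.commutes, MvPolynomial.constantCoeff_C]
      exact hσ c
    · show π (θ (MvPolynomial.X i)) = _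
      rw [MvPolynomial.constantCoeff_X]
      simp only [θ, MvPolynomial.aeval_X]
      rw [← hr (lam i), hπ]
      exact Ideal.Quotient.eq_zero_iff_mem.mpr (r (lam i)).2
  have claim : ∀ f, En f = f → θ f = 0 → ∀ n ≤ m, f ∈ V ^ n := by
    intro f hfE hf n
    induction n with
    | zero => intro _; simp
    | succ n ih =>
      intro hn
      have hfn := ih (by omega)
      rcases Nat.eq_zero_or_pos n with rfl | hn0
      · rw [zero_add, MvPolynomial.mem_pow_idealOfVars_iff']
        intro d hd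
        have hd0 : d = 0 := (Finsupp.degree_eq_zero_iff d).mp (by omega)
        subst hd0
        have := RingHom.congr_fun hπθ f
        rw [RingHom.comp_apply, AlgHom.toRingHom_eq_coe, AlgHom.toRingHom_eq_coe, RingHom.coe_coe, RingHom.coe_coe,
          hf, map_zero] at this
        exact this.symm
      set h := MvPolynomial.homogeneousComponent n f with hh
      have hrest : f - h ∈ V ^ (n + 1) := by
        rw [MvPolynomial.mem_pow_idealOfVars_iff']
        intro d hd
        rw [MvPolynomial.coeff_sub, hh, MvPolynomial.coeff_homogeneousComponent]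
        split_ifs with hdn
        · exact sub_self _
        · rw [sub_zero]
          exact (MvPolynomial.mem_pow_idealOfVars_iff' n f).mp hfn d (by omega)
      obtain ⟨y, hy⟩ := homogeneous_mem_range_linFormQ (ι := ULift.{u} (Fin n)) hC h
        (by simpa using MvPolynomial.homogeneousComponent_isHomogeneous n f)
      haveI : Nonempty (ULift.{u} (Fin n)) := ⟨⟨⟨0, hn0⟩⟩⟩
      have hcard : Fintype.card (ULift.{u} (Fin n)) = n := by simp
      have hEh : En h = prodMap (linFormQ B) (map (s.restrictScalars B ∘ₗ p.restrictScalars B) y) := by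
        rw [← hy]
        refine LinearMap.congr_fun (f := (En.toLinearMap.restrictScalars B) ∘ₗ prodMap (linFormQ B))
          (g := prodMap (linFormQ B) ∘ₗ map (s.restrictScalars B ∘ₗ p.restrictScalars B)) (hom_ext fun z => ?_) y
        simp only [LinearMap.comp_apply, LinearMap.coe_restrictScalars, prodMap_tprod, map_tprod,
          AlgHom.toLinearMap_apply, map_prod, linFormQ, hEn]
        rfl
      have hEh' : En h = h := by
        have h1 : En h - h ∈ V ^ (n + 1) := by
          have h2 : En (f - h) ∈ V ^ (n + 1) := by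
            have h3 := Ideal.pow_right_mono hEV (n + 1)
            rw [← Ideal.map_pow] at h3
            exact h3 (Ideal.mem_map_of_mem _ hrest)
          have h4 := sub_mem hrest h2
          rwa [map_sub, hfE, show f - h - (f - En h) = En h - h by ring] at h4
        rw [MvPolynomial.mem_pow_idealOfVars_iff'] at h1
        rw [← sub_eq_zero]
        ext d
        rw [MvPolynomial.coeff_zero]
        by_contra hd
        have hom : MvPolynomial.IsHomogeneous (En h - h) n := by
          refine MvPolynomial.IsHomogeneous.sub ?_ (MvPolynomial.homogeneousComponent_isHomogeneous n f)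
          have h5 := prodMap_linFormQ_isHomogeneous hC (map (s.restrictScalars B ∘ₗ p.restrictScalars B) y)
          rwa [← hEh, hcard] at h5
        rcases eq_or_ne d.degree n with hdn | hdn
        · exact hd (h1 d (by omega))
        · exact hd (hom.coeff_eq_zero hdn)
      obtain ⟨x, hx, hx1, hx2⟩ := hdeg (ULift.{u} (Fin n)) y
      have hθh : θ h ∈ J' ^ (n + 1) := by
        have h1 : θ (f - h) ∈ J' ^ (n + 1) := by
          have h3 := Ideal.pow_right_mono hθV (n + 1)
          rw [← Ideal.map_pow] at h3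
          exact h3 (Ideal.mem_map_of_mem _ hrest)
        rwa [map_sub, hf, zero_sub, neg_mem_iff] at h1
      have hxn : x ∈ J ^ (Fintype.card (ULift.{u} (Fin n)) + 1) := by
        rw [hy, hcard] at hx2
        have h1 := sub_mem hθh hx2
        rw [sub_sub_cancel, ← Ideal.map_pow, Ideal.mem_quotient_iff_mem_sup,
          sup_eq_left.mpr (Ideal.pow_le_pow_right hn)] at h1
        rwa [hcard]
      have hzero : map (p.restrictScalars B) y = 0 := hinj _ (by
        rw [hx1, map_zero, Submodule.Quotient.mk_eq_zero]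
        exact hxn)
      have hh0 : h = 0 := by
        rw [← hEh', hEh, map_comp, LinearMap.comp_apply, hzero, map_zero, map_zero]
      simpa [hh0] using hrest
  let Q := MvPolynomial J.Cotangent (B ⧸ J) ⧸ V ^ m
  let θA : MvPolynomial J.Cotangent (B ⧸ J) →ₐ[A] B ⧸ J ^ m := θ.restrictScalars A
  have hθs : Function.Surjective θA := by
    intro y
    obtain ⟨b, rfl⟩ := Ideal.Quotient.mk_surjective y
    have key : ∀ n, n ≤ m → ∀ x ∈ J ^ n, ∃ f ∈ V ^ n, θ f - Ideal.Quotient.mk _ x ∈ J' ^ (n + 1) := by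
      intro n
      induction n with
      | zero =>
        intro _ x _
        exact ⟨algebraMap _ _ (Ideal.Quotient.mk J x), by simp, by rw [AlgHom.commutes, zero_add, pow_one]; exact hσb x⟩
      | succ n ih =>
        intro hn x hx
        rw [pow_succ] at hx
        refine Submodule.mul_induction_on hx (fun a ha c hc => ?_) fun a c ⟨f, hf, hf'⟩ ⟨g, hg, hg'⟩ =>
          ⟨f + g, add_mem hf hg, by rw [map_add, map_add, add_sub_add_comm]; exact add_mem hf' hg'⟩
        obtain ⟨f, hf, hf'⟩ := ih (by omega) a ha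
        refine ⟨f * MvPolynomial.X (J.toCotangent ⟨c, hc⟩), by
          rw [pow_succ]; exact Ideal.mul_mem_mul hf (Ideal.subset_span ⟨_, rfl⟩), ?_⟩
        have h1 : (lam (J.toCotangent ⟨c, hc⟩) : B ⧸ J ^ m) - Ideal.Quotient.mk _ c ∈ J' ^ 2 := by
          rw [← hr (lam _), ← map_sub, ← Ideal.map_pow]
          refine Ideal.mem_map_of_mem _ ((Ideal.toCotangent_eq J (x := r (lam _)) (y := ⟨c, hc⟩)).mp ?_)
          exact LinearMap.congr_fun hlam _
        have hfn : θ f ∈ J' ^ n := by
          have h3 := Ideal.pow_right_mono hθV n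
          rw [← Ideal.map_pow] at h3
          exact h3 (Ideal.mem_map_of_mem _ hf)
        rw [map_mul, map_mul, show θ (MvPolynomial.X (J.toCotangent ⟨c, hc⟩)) = _ from MvPolynomial.aeval_X _ _,
          show ∀ u v w z : B ⧸ J ^ m, u * v - w * z = (u - w) * z + u * (v - z) from fun u v w z => by ring]
        refine add_mem ?_ ?_
        · rw [pow_succ]
          exact Ideal.mul_mem_mul hf' (Ideal.mem_map_of_mem _ hc)
        · rw [show n + 1 + 1 = n + 2 from rfl, pow_add J' n 2]
          exact Ideal.mul_mem_mul hfn h1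
    have : ∀ n, n ≤ m → ∃ f, θ f - Ideal.Quotient.mk (J ^ m) b ∈ J' ^ n := by
      intro n
      induction n with
      | zero => exact fun _ => ⟨0, by simp⟩
      | succ n ih =>
        intro hn
        obtain ⟨f, hf⟩ := ih (by omega)
        rw [← Ideal.map_pow, Ideal.mem_map_iff_of_surjective _ Ideal.Quotient.mk_surjective] at hf
        obtain ⟨x, hx, hxe⟩ := hf
        obtain ⟨g, _, hg⟩ := key n (by omega) x hx
        refine ⟨f - g, ?_⟩
        rw [map_sub, show θ f - θ g - Ideal.Quotient.mk _ b = -(θ g - (θ f - Ideal.Quotient.mk _ b)) by ring,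
          neg_mem_iff, ← hxe]
        exact hg
    obtain ⟨f, hf⟩ := this m le_rfl
    rw [hJm, Submodule.mem_bot, sub_eq_zero] at hf
    exact ⟨f, hf⟩
  have hker' : ∀ f, θ f = 0 → Ideal.Quotient.mk (V ^ m) (En f) = 0 := fun f hf =>
    Ideal.Quotient.eq_zero_iff_mem.mpr (claim (En f) (AlgHom.congr_fun hEE f)
      ((AlgHom.congr_fun hθE f).trans hf) m le_rfl)
  let EQ : MvPolynomial J.Cotangent (B ⧸ J) →ₐ[A] Q :=
    (Ideal.Quotient.mkₐ A _).comp (En.restrictScalars A)
  let ρ : B ⧸ J ^ m →ₐ[A] Q :=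
    (Ideal.Quotient.liftₐ (RingHom.ker θA.toRingHom) EQ fun f hf => hker' f hf).comp
      (Ideal.quotientKerAlgEquivOfSurjective hθs).symm.toAlgHom
  have hρ : ∀ f, ρ (θ f) = Ideal.Quotient.mk _ (En f) := fun f => by
    have h1 : (Ideal.quotientKerAlgEquivOfSurjective hθs).symm (θA f) =
        Ideal.Quotient.mk (RingHom.ker θA.toRingHom) f :=
      (AlgEquiv.symm_apply_eq _).mpr rfl
    exact (congrArg (Ideal.Quotient.liftₐ (RingHom.ker θA.toRingHom) EQ fun g hg => hker' g hg) h1).trans rfl
  haveI : Algebra.FormallySmooth A (MvPolynomial J.Cotangent (B ⧸ J)) :=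
    Algebra.FormallySmooth.comp A (B ⧸ J) _
  let ψb : B ⧸ J ^ m →ₐ[A] E ⧸ N :=
    Ideal.Quotient.liftₐ _ ψ fun x hx => hk x (Ideal.pow_le_pow_right (Nat.le_add_right k k) hx)
  let g := Algebra.FormallySmooth.lift N ⟨2, hN⟩ (ψb.comp θA)
  have hg : ∀ f, Ideal.Quotient.mk N (g f) = ψb (θ f) := fun f =>
    Algebra.FormallySmooth.mk_lift N ⟨2, hN⟩ _ f
  have hgV : ∀ f ∈ V ^ k, g f ∈ N := fun f hf => by
    rw [← Ideal.Quotient.eq_zero_iff_mem, hg]
    have h3 := Ideal.pow_right_mono hθV k
    rw [← Ideal.map_pow, ← Ideal.map_pow] at h3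
    obtain ⟨x, hx, he⟩ :=
      (Ideal.mem_map_iff_of_surjective _ Ideal.Quotient.mk_surjective).mp (h3 (Ideal.mem_map_of_mem _ hf))
    rw [show θ f = Ideal.Quotient.mk _ x from he.symm]
    exact hk x hx
  have hgm : ∀ f ∈ V ^ m, g f = 0 := fun f hf => by
    rw [show m = k + k from rfl, pow_add] at hf
    refine Submodule.mul_induction_on hf (fun a ha c hc => ?_) fun a c ha hc => by rw [map_add, ha, hc, add_zero]
    rw [map_mul, ← Submodule.mem_bot E, ← hN, pow_two]
    exact Ideal.mul_mem_mul (hgV a ha) (hgV c hc)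
  refine ⟨((Ideal.Quotient.liftₐ _ g hgm).comp ρ).comp (Ideal.Quotient.mkₐ A _), AlgHom.ext fun b => ?_⟩
  obtain ⟨f, hf⟩ := hθs (Ideal.Quotient.mk _ b)
  show Ideal.Quotient.mk N (Ideal.Quotient.liftₐ _ g hgm (ρ (Ideal.Quotient.mk _ b))) = ψ b
  rw [← show θ f = Ideal.Quotient.mk _ b from hf, hρ]
  show Ideal.Quotient.mk N (g (En f)) = ψ b
  rw [hg, show θ (En f) = θ f from AlgHom.congr_fun hθE f, show θ f = Ideal.Quotient.mk _ b from hf]
  rfl

end

end Groth.Agent.SymGr
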