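import Groth.Agent.Lib.SymGr.SymPow
import Mathlib.RingTheory.TensorProduct.MvPolynomial
import Mathlib.RingTheory.TensorProduct.Basic

/-!
# Symmetric powers of projective modules and base change
-/

universe u v

namespace Groth.Agent.SymGr

open TensorProduct

variable {R : Type u} [CommRing R] {M : Type v} [AddCommGroup M] [Module R M] {ι : Type u} [Fintype ι]

theorem exists_retraction (s : M →ₗ[R] (M →₀ R)) (hs : Finsupp.linearCombination R id ∘ₗ s = LinearMap.id) :
    ∃ r : MvPolynomial M R →ₗ[R] Sym[R] ι M,
      r ∘ₗ (prodMap (ι := ι) (linForm (R := R) (σ := M)) ∘ₗ map s) = LinearMap.id := by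
  obtain ⟨Ψ, hΨ⟩ := exists_leftInverse_prodMap_linForm (R := R) (ι := ι) (σ := M)
  refine ⟨map (Finsupp.linearCombination R (id : M → M)) ∘ₗ Ψ, hom_ext fun x => ?_⟩
  have h1 := LinearMap.congr_fun hΨ (map s (SymmetricPower.tprod R x))
  simp only [LinearMap.comp_apply, LinearMap.id_apply] at h1 ⊢
  rw [h1, map_tprod, map_tprod]
  congr 1
  funext i
  exact LinearMap.congr_fun hs (x i)

theorem projective_symmetricPower [Module.Projective R M] : Module.Projective R (Sym[R] ι M) := by
  obtain ⟨s, hs⟩ := Module.projective_def'.mp (inferInstance : Module.Projective R M)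
  obtain ⟨r, hr⟩ := exists_retraction (ι := ι) s hs
  exact Module.Projective.of_split _ r hr

section baseChange

variable {R' : Type u} [CommRing R'] [Algebra R R'] {M' : Type v} [AddCommGroup M'] [Module R' M']
  [Module R M'] [IsScalarTower R R' M'] (β : M →ₗ[R] M')
  [Module R (Sym[R'] ι M')] [IsScalarTower R R' (Sym[R'] ι M')]

/-- Base change map of symmetric powers. -/
noncomputable def bcLin : Sym[R] ι M →ₗ[R] Sym[R'] ι M' :=
  lift (((SymmetricPower.tprod R' (ι := ι) (M := M')).restrictScalars R).compLinearMap fun _ => β)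
    fun e x => SymmetricPower.tprod_equiv e fun i => β (x i)

theorem bcLin_tprod (x : ι → M) :
    bcLin (R' := R') β (SymmetricPower.tprod R x) = SymmetricPower.tprod R' fun i => β (x i) :=
  lift_tprod _ _ x

/-- Base change map, linearized. -/
noncomputable def bc : R' ⊗[R] Sym[R] ι M →ₗ[R'] Sym[R'] ι M' :=
  TensorProduct.AlgebraTensorModule.lift ((LinearMap.ringLmapEquivSelf R' R' _).symm (bcLin (R' := R') β))

theorem bc_tmul (a : R') (x : Sym[R] ι M) : bc (R' := R') β (a ⊗ₜ x) = a • bcLin (R' := R') β x := rfl

theorem bc_surjective (hβ : Submodule.span R' (Set.range β) = ⊤) :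
    Function.Surjective (bc (R' := R') (ι := ι) β) := by
  classical
  intro y
  have hy : y ∈ Submodule.span R' (Set.range fun c : ι → M => SymmetricPower.tprod R' fun i => β (c i)) := by
    have hx : y ∈ Submodule.span R' (Set.range (SymmetricPower.tprod R' (ι := ι) (M := M'))) := by
      rw [SymmetricPower.span_tprod_eq_top]; trivial
    refine (Submodule.span_le.mpr ?_) hx
    rintro _ ⟨x, rfl⟩
    have hxi : ∀ i, ∃ c : M →₀ R', Finsupp.linearCombination R' β c = x i := fun i =>
      (Finsupp.mem_span_range_iff_exists_finsupp).mp (hβ ▸ Submodule.mem_top)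
    choose c hc using hxi
    have : x = fun i => ∑ k ∈ (c i).support, c i k • β k := funext fun i => by
      rw [← hc i, Finsupp.linearCombination_apply, Finsupp.sum]
    rw [SetLike.mem_coe, this, MultilinearMap.map_sum_finset]
    refine sum_mem fun k _ => ?_
    rw [MultilinearMap.map_smul_univ]
    exact Submodule.smul_mem _ _ (Submodule.subset_span ⟨k, rfl⟩)
  have hle : Submodule.span R' (Set.range fun c : ι → M => SymmetricPower.tprod R' fun i => β (c i)) ≤
      LinearMap.range (bc (R' := R') (ι := ι) β) := Submodule.span_le.mpr (by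
    rintro _ ⟨c, rfl⟩
    exact ⟨(1 : R') ⊗ₜ SymmetricPower.tprod R c, by rw [bc_tmul, bcLin_tprod, one_smul]⟩)
  exact hle hy

theorem bc_injective [Module.Projective R M] (hβ : IsBaseChange R' β) :
    Function.Injective (bc (R' := R') (ι := ι) β) := by
  obtain ⟨s, hs⟩ := Module.projective_def'.mp (inferInstance : Module.Projective R M)
  obtain ⟨r, hr⟩ := exists_retraction (ι := ι) s hs
  let s' : M' →ₗ[R'] (M →₀ R') := hβ.lift ((Finsupp.mapRange.linearMap (Algebra.linearMap R R')) ∘ₗ s)
  have hs' : ∀ m, s' (β m) = (s m).mapRange (algebraMap R R') (map_zero _) := fun m => hβ.lift_eq _ m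
  let T : Sym[R'] ι M' →ₗ[R'] MvPolynomial M R' := prodMap (linForm (R := R') (σ := M) ∘ₗ s')
  have hlin : ∀ f : M →₀ R, linForm (R := R') (f.mapRange (algebraMap R R') (map_zero _)) =
      MvPolynomial.map (algebraMap R R') (linForm (R := R) f) := by
    intro f
    induction f using Finsupp.induction_linear with
    | zero => simp
    | add x y hx hy => rw [Finsupp.mapRange_add (map_add _), map_add, map_add, map_add, hx, hy]
    | single a b =>
      simp [linForm, MvPolynomial.smul_eq_C_mul]
      rw [Algebra.smul_def]
      rfl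
  let P : Sym[R] ι M →ₗ[R] MvPolynomial M R := prodMap (ι := ι) (linForm (R := R) (σ := M)) ∘ₗ map s
  have hP : ∀ x, T (bcLin (R' := R') β x) = MvPolynomial.map (algebraMap R R') (P x) := by
    have h : (T.restrictScalars R) ∘ₗ bcLin (R' := R') β =
        (MvPolynomial.mapAlgHom (R := R) (Algebra.ofId R R')).toLinearMap ∘ₗ P := hom_ext fun x => by
      show T (bcLin (R' := R') β (SymmetricPower.tprod R x)) =
        MvPolynomial.map (algebraMap R R') (P (SymmetricPower.tprod R x))
      simp only [P, T, LinearMap.comp_apply, bcLin_tprod, prodMap_tprod, map_tprod, hs', hlin, map_prod]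
    intro x
    exact LinearMap.congr_fun h x
  have key : T ∘ₗ bc (R' := R') β =
      (MvPolynomial.algebraTensorAlgEquiv R R').toLinearMap ∘ₗ P.baseChange R' := by
    refine TensorProduct.AlgebraTensorModule.ext fun a x => ?_
    simp [bc_tmul, hP]
  have hinj : Function.Injective (T ∘ₗ bc (R' := R') β) := by
    rw [key]
    refine (MvPolynomial.algebraTensorAlgEquiv R R').injective.comp ?_
    refine Function.LeftInverse.injective (g := r.baseChange R') fun x => ?_
    rw [← LinearMap.comp_apply, ← LinearMap.baseChange_comp, hr, LinearMap.baseChange_id]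
    rfl
  exact Function.Injective.of_comp (f := (T : Sym[R'] ι M' → MvPolynomial M R')) hinj

end baseChange

end Groth.Agent.SymGr
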