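import Groth.Agent.Lib.SymGr.DiffSmooth
import Groth.Agent.Lib.SymGr.BaseChange
import Groth.Agent.Lib.PP16.Basic
import Mathlib.RingTheory.Kaehler.TensorProduct
import Mathlib.RingTheory.Flat.FaithfullyFlat.Basic
import Mathlib.LinearAlgebra.Prod

/-!
# Base change and descent of differential smoothness
-/

universe u
open scoped TensorProduct

namespace Groth.Agent.SymGr

section abstractSquare

variable {R R' : Type u} [CommRing R] [CommRing R'] [Algebra R R']
  {M M' : Type u} [AddCommGroup M] [Module R M] [AddCommGroup M'] [Module R' M'] [Module R M']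
  [IsScalarTower R R' M'] {ι : Type u} [Fintype ι]
  {G G' : Type u} [AddCommGroup G] [Module R G] [AddCommGroup G'] [Module R' G'] [Module R G']
  [IsScalarTower R R' G']
  (β : M →ₗ[R] M') (c : Sym[R] ι M →ₗ[R] G) (c' : Sym[R'] ι M' →ₗ[R'] G') (gm : G →ₗ[R] G')
  (hcomm : ∀ x : ι → M, c' (SymmetricPower.tprod R' fun i => β (x i)) = gm (c (SymmetricPower.tprod R x)))

include hcomm

theorem injective_descend [Module.FaithfullyFlat R R'] [Module.Projective R M]
    (hβ : IsBaseChange R' β) (hc' : Function.Injective c') : Function.Injective c := by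
  letI : Module R (Sym[R'] ι M') := Module.compHom _ (algebraMap R R')
  haveI : IsScalarTower R R' (Sym[R'] ι M') := IsScalarTower.of_algebraMap_smul fun _ _ => rfl
  have h0 : (c'.restrictScalars R) ∘ₗ bcLin (R' := R') β = gm ∘ₗ c := hom_ext fun x => by
    show c' (bcLin (R' := R') β _) = _
    rw [bcLin_tprod]
    exact hcomm x
  have h : c' ∘ₗ bc (R' := R') β = gm.liftBaseChange R' ∘ₗ c.baseChange R' :=
    TensorProduct.AlgebraTensorModule.ext fun a x => by
      have h1 := LinearMap.congr_fun h0 x
      simp only [LinearMap.comp_apply, LinearMap.coe_restrictScalars] at h1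
      simp [bc_tmul, h1]
  have hinj : Function.Injective (c' ∘ₗ bc (R' := R') β) := hc'.comp (bc_injective β hβ)
  rw [h] at hinj
  have h2 : Function.Injective (c.baseChange R') := Function.Injective.of_comp (f := (gm.liftBaseChange R' : R' ⊗[R] G → G')) hinj
  exact (Module.FaithfullyFlat.lTensor_injective_iff_injective R R' c).mp h2

theorem injective_ascend {P P' : Type u} [AddCommGroup P] [Module R P] [AddCommGroup P'] [Module R' P']
    [Module R P'] [IsScalarTower R R' P'] (incl : G →ₗ[R] P) (ρ : P →ₗ[R] G) (hρ : ρ ∘ₗ incl = LinearMap.id)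
    (incl' : G' →ₗ[R'] P') (π : P →ₗ[R] P') (hπ : IsBaseChange R' π)
    (hincl : ∀ x, incl' (gm x) = π (incl x))
    (hspan : Submodule.span R' (Set.range β) = ⊤)
    (hc : Function.Bijective c) : Function.Injective c' := by
  letI : Module R (Sym[R'] ι M') := Module.compHom _ (algebraMap R R')
  haveI : IsScalarTower R R' (Sym[R'] ι M') := IsScalarTower.of_algebraMap_smul fun _ _ => rfl
  have h0 : (c'.restrictScalars R) ∘ₗ bcLin (R' := R') β = gm ∘ₗ c := hom_ext fun x => by
    show c' (bcLin (R' := R') β _) = _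
    rw [bcLin_tprod]
    exact hcomm x
  have hg : Function.Injective (gm.liftBaseChange R') := by
    have h : incl' ∘ₗ gm.liftBaseChange R' = hπ.equiv.toLinearMap ∘ₗ incl.baseChange R' :=
      TensorProduct.AlgebraTensorModule.ext fun a x => by simp [hincl, IsBaseChange.equiv_tmul]
    have hi : Function.Injective (incl' ∘ₗ gm.liftBaseChange R') := by
      rw [h]
      refine hπ.equiv.injective.comp (Function.LeftInverse.injective (g := ρ.baseChange R') fun x => ?_)
      rw [← LinearMap.comp_apply, ← LinearMap.baseChange_comp, hρ, LinearMap.baseChange_id]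
      rfl
    exact Function.Injective.of_comp (f := (incl' : G' → P')) hi
  intro x y hxy
  obtain ⟨x, rfl⟩ := bc_surjective (R' := R') β hspan x
  obtain ⟨y, rfl⟩ := bc_surjective (R' := R') β hspan y
  congr 1
  have h : c' ∘ₗ bc (R' := R') β = gm.liftBaseChange R' ∘ₗ c.baseChange R' :=
    TensorProduct.AlgebraTensorModule.ext fun a x => by
      have h1 := LinearMap.congr_fun h0 x
      simp only [LinearMap.comp_apply, LinearMap.coe_restrictScalars] at h1
      simp [bc_tmul, h1]
  have hcb : Function.Injective (c.baseChange R') :=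
    (LinearEquiv.baseChange R R' _ _ (LinearEquiv.ofBijective c hc)).injective
  apply hcb
  apply hg
  have h1 := LinearMap.congr_fun h x
  have h2 := LinearMap.congr_fun h y
  simp only [LinearMap.comp_apply] at h1 h2
  rw [← h1, ← h2, hxy]

end abstractSquare

section split

variable {B R : Type u} [CommRing B] [CommRing R] [Algebra B R] (I : Ideal R)

/-- `Iⁿ/Iⁿ⁺¹ → R/Iⁿ⁺¹`. -/
noncomputable def grIncl (n : ℕ) : gr B I n →ₗ[B] R ⧸ I ^ (n + 1) :=
  Submodule.liftQ _ ((Ideal.Quotient.mkₐ B (I ^ (n + 1))).toLinearMap ∘ₗ ((I ^ n).restrictScalars B).subtype)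
    fun _ hx => Ideal.Quotient.eq_zero_iff_mem.mpr hx

theorem grIncl_mk (n : ℕ) (x : ↥((I ^ n).restrictScalars B)) :
    grIncl I n (Submodule.Quotient.mk x) = Ideal.Quotient.mk (I ^ (n + 1)) (x : R) := rfl

theorem grIncl_injective (n : ℕ) : Function.Injective (grIncl (B := B) I n) := by
  rw [← LinearMap.ker_eq_bot, LinearMap.ker_eq_bot']
  intro q hq
  obtain ⟨x, rfl⟩ := Submodule.Quotient.mk_surjective _ q
  exact (Submodule.Quotient.mk_eq_zero _).mpr (Ideal.Quotient.eq_zero_iff_mem.mp hq)

/-- Projection `R/Iⁿ⁺² → R/Iⁿ⁺¹`. -/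
noncomputable def proj (n : ℕ) : (R ⧸ I ^ (n + 1 + 1)) →ₗ[B] R ⧸ I ^ (n + 1) :=
  (Ideal.Quotient.factorₐ B (Ideal.pow_le_pow_right (Nat.le_succ (n + 1)))).toLinearMap

theorem exact_grIncl_proj (n : ℕ) : Function.Exact (grIncl (B := B) I (n + 1)) (proj (B := B) I n) := by
  intro y
  constructor
  · intro hy
    obtain ⟨r, rfl⟩ := Ideal.Quotient.mk_surjective y
    exact ⟨Submodule.Quotient.mk ⟨r, Ideal.Quotient.eq_zero_iff_mem.mp hy⟩, rfl⟩
  · rintro ⟨q, rfl⟩
    obtain ⟨x, rfl⟩ := Submodule.Quotient.mk_surjective _ q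
    exact Ideal.Quotient.eq_zero_iff_mem.mpr x.2

theorem proj_surjective (n : ℕ) : Function.Surjective (proj (B := B) I n) := by
  intro y
  obtain ⟨r, rfl⟩ := Ideal.Quotient.mk_surjective y
  exact ⟨Ideal.Quotient.mk _ r, rfl⟩

/-- If all `Iⁿ/Iⁿ⁺¹` are projective and `R/I ≅ B`, then all `R/Iⁿ⁺¹` are projective and split. -/
theorem projective_quotient (h0 : Function.Bijective ((Ideal.Quotient.mk I).comp (algebraMap B R)))
    (hgr : ∀ n, Module.Projective B (gr B I (n + 1))) :
    ∀ n, Module.Projective B (R ⧸ I ^ (n + 1)) := by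
  intro n
  induction n with
  | zero =>
    have e : B ≃ₗ[B] R ⧸ I := LinearEquiv.ofBijective (Algebra.linearMap B (R ⧸ I)) h0
    have e2 : (R ⧸ I) ≃ₗ[B] R ⧸ I ^ (0 + 1) :=
      (Ideal.quotientEquivAlgOfEq B (show I = I ^ (0 + 1) by rw [zero_add, pow_one])).toLinearEquiv
    exact Module.Projective.of_equiv (e.trans e2)
  | succ n ih =>
    haveI := ih
    haveI := hgr n
    obtain ⟨s, hs⟩ := Module.projective_lifting_property (proj (B := B) I n) LinearMap.id (proj_surjective I n)
    have P := ((exact_grIncl_proj (B := B) I n).splitSurjectiveEquiv (grIncl_injective (B := B) I (n + 1)) ⟨s, hs⟩).1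
    exact Module.Projective.of_equiv P.symm

theorem exists_retraction_grIncl (h0 : Function.Bijective ((Ideal.Quotient.mk I).comp (algebraMap B R)))
    (hgr : ∀ n, Module.Projective B (gr B I (n + 1))) :
    ∀ n, ∃ ρ : (R ⧸ I ^ (n + 1)) →ₗ[B] gr B I n, ρ ∘ₗ grIncl I n = LinearMap.id := by
  intro n
  cases n with
  | zero =>
    have hsurj : Function.Surjective (grIncl (B := B) I 0) := by
      intro y
      obtain ⟨r, rfl⟩ := Ideal.Quotient.mk_surjective y
      exact ⟨Submodule.Quotient.mk ⟨r, by simp⟩, rfl⟩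
    let e := LinearEquiv.ofBijective (grIncl (B := B) I 0) ⟨grIncl_injective I 0, hsurj⟩
    exact ⟨e.symm.toLinearMap, LinearMap.ext fun x => e.symm_apply_apply x⟩
  | succ n =>
    haveI := projective_quotient I h0 hgr n
    obtain ⟨s, hs⟩ := Module.projective_lifting_property (proj (B := B) I n) LinearMap.id (proj_surjective I n)
    let P := (exact_grIncl_proj I n).splitSurjectiveEquiv (grIncl_injective (B := B) I (n + 1)) ⟨s, hs⟩
    refine ⟨(LinearMap.fst B _ _) ∘ₗ P.1.toLinearMap, LinearMap.ext fun x => ?_⟩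
    have h := LinearMap.congr_fun P.2.1 x
    simp only [LinearMap.comp_apply, LinearEquiv.coe_coe] at h ⊢
    rw [h, LinearEquiv.apply_symm_apply]
    rfl

end split

section square

variable (A B A' B' : Type u) [CommRing A] [CommRing B] [Algebra A B]
  [CommRing A'] [CommRing B'] [Algebra A' B'] [Algebra A A'] [Algebra B B'] [Algebra A B']
  [IsScalarTower A A' B'] [IsScalarTower A B B']

theorem isBaseChange_kaehlerMap [Algebra.IsPushout A A' B B'] :
    IsBaseChange B' (KaehlerDifferential.map A A' B B') := by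
  refine IsBaseChange.of_equiv (KaehlerDifferential.tensorKaehlerEquiv A A' B B') fun x => ?_
  have h : ((KaehlerDifferential.tensorKaehlerEquiv A A' B B').toLinearMap.restrictScalars B) ∘ₗ
      (TensorProduct.mk B B' (KaehlerDifferential A B) 1) = KaehlerDifferential.map A A' B B' := by
    refine LinearMap.ext_on_range (KaehlerDifferential.span_range_derivation A B) fun b => ?_
    show KaehlerDifferential.tensorKaehlerEquiv A A' B B' ((1 : B') ⊗ₜ KaehlerDifferential.D A B b) = _
    rw [KaehlerDifferential.tensorKaehlerEquiv_tmul_D, one_smul, KaehlerDifferential.map_D]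
  exact LinearMap.congr_fun h x

theorem tensorMap_mem_pow (n : ℕ) {x : B ⊗[A] B} (hx : x ∈ KaehlerDifferential.ideal A B ^ n) :
    PP16.tensorMap A B A' B' x ∈ KaehlerDifferential.ideal A' B' ^ n := by
  have h := Ideal.pow_right_mono (PP16.ideal_map_tensorMap_le A B A' B') n
  rw [← Ideal.map_pow] at h
  exact h (Ideal.mem_map_of_mem _ hx)

theorem tensorMap_smul (b : B) (x : B ⊗[A] B) :
    PP16.tensorMap A B A' B' (b • x) = algebraMap B B' b • PP16.tensorMap A B A' B' x := by
  induction x using TensorProduct.induction_on with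
  | zero => simp
  | add x y hx hy => rw [smul_add, map_add, map_add, hx, hy, smul_add]
  | tmul c d =>
    rw [TensorProduct.smul_tmul', PP16.tensorMap_tmul, PP16.tensorMap_tmul, TensorProduct.smul_tmul',
      smul_eq_mul, smul_eq_mul, map_mul]

theorem exists_grMap (n : ℕ) :
    ∃ gm : gr B (KaehlerDifferential.ideal A B) n →ₗ[B] gr B' (KaehlerDifferential.ideal A' B') n,
      ∀ (x : B ⊗[A] B) (hx : x ∈ KaehlerDifferential.ideal A B ^ n),
        gm (Submodule.Quotient.mk ⟨x, hx⟩) =
          Submodule.Quotient.mk ⟨PP16.tensorMap A B A' B' x, tensorMap_mem_pow A B A' B' n hx⟩ := by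
  let pre : ↥((KaehlerDifferential.ideal A B ^ n).restrictScalars B) →ₗ[B]
      gr B' (KaehlerDifferential.ideal A' B') n :=
    { toFun := fun x => Submodule.Quotient.mk
        ⟨PP16.tensorMap A B A' B' (x : B ⊗[A] B), tensorMap_mem_pow A B A' B' n x.2⟩
      map_add' := fun x y => by
        rw [← Submodule.Quotient.mk_add]
        congr 1
        ext
        exact map_add (PP16.tensorMap A B A' B') (x : B ⊗[A] B) (y : B ⊗[A] B)
      map_smul' := fun b x => by
        conv_rhs => rw [RingHom.id_apply, ← algebraMap_smul B' b, ← Submodule.Quotient.mk_smul]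
        congr 1
        ext
        exact tensorMap_smul A B A' B' b (x : B ⊗[A] B) }
  refine ⟨Submodule.liftQ _ pre fun x hx => (Submodule.Quotient.mk_eq_zero _).mpr ?_, fun x hx => rfl⟩
  exact tensorMap_mem_pow A B A' B' (n + 1) hx

theorem canon_comm (ι : Type u) [Fintype ι]
    (gm : gr B (KaehlerDifferential.ideal A B) (Fintype.card ι) →ₗ[B]
      gr B' (KaehlerDifferential.ideal A' B') (Fintype.card ι))
    (hgm : ∀ (x : B ⊗[A] B) (hx : x ∈ KaehlerDifferential.ideal A B ^ Fintype.card ι),
        gm (Submodule.Quotient.mk ⟨x, hx⟩) =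
          Submodule.Quotient.mk ⟨PP16.tensorMap A B A' B' x, tensorMap_mem_pow A B A' B' _ hx⟩)
    (y : ι → (KaehlerDifferential A B)) :
    canon B' (KaehlerDifferential.ideal A' B') ι
        (SymmetricPower.tprod B' fun i => KaehlerDifferential.map A A' B B' (y i)) =
      gm (canon B (KaehlerDifferential.ideal A B) ι (SymmetricPower.tprod B y)) := by
  have hz : ∀ i, ∃ z : ↥(KaehlerDifferential.ideal A B),
      (KaehlerDifferential.ideal A B).toCotangent z = y i := fun i => Ideal.toCotangent_surjective _ (y i)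
  choose z hz using hz
  let z' : ι → ↥(KaehlerDifferential.ideal A' B') := fun i =>
    ⟨PP16.tensorMap A B A' B' (z i : B ⊗[A] B),
      PP16.ideal_map_tensorMap_le A B A' B' (Ideal.mem_map_of_mem _ (z i).2)⟩
  have key : ∀ w : ↥(KaehlerDifferential.ideal A B),
      KaehlerDifferential.map A A' B B' ((KaehlerDifferential.ideal A B).toCotangent w) =
        (KaehlerDifferential.ideal A' B').toCotangent
          ⟨PP16.tensorMap A B A' B' (w : B ⊗[A] B),
            PP16.ideal_map_tensorMap_le A B A' B' (Ideal.mem_map_of_mem _ w.2)⟩ := by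
    rintro ⟨w, hw⟩
    have hw' := hw
    rw [← Submodule.restrictScalars_mem B, ← KaehlerDifferential.submodule_span_range_eq_ideal] at hw'
    induction hw' using Submodule.span_induction with
    | mem x hx =>
      obtain ⟨b, rfl⟩ := hx
      show KaehlerDifferential.map A A' B B' (KaehlerDifferential.D A B b) = _
      rw [KaehlerDifferential.map_D]
      show (KaehlerDifferential.ideal A' B').toCotangent _ = (KaehlerDifferential.ideal A' B').toCotangent _
      congr 1
      ext
      show (1 : B') ⊗ₜ[A'] algebraMap B B' b - algebraMap B B' b ⊗ₜ[A'] (1 : B') =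
        PP16.tensorMap A B A' B' ((1 : B) ⊗ₜ[A] b - b ⊗ₜ[A] (1 : B))
      rw [map_sub, PP16.tensorMap_tmul, PP16.tensorMap_tmul, map_one]
    | zero =>
      rw [show (⟨0, hw⟩ : ↥(KaehlerDifferential.ideal A B)) = 0 from rfl, map_zero]
      refine (map_zero _).trans (Eq.symm ?_)
      refine (Ideal.toCotangent_eq_zero _ _).mpr ?_
      show PP16.tensorMap A B A' B' 0 ∈ _
      rw [map_zero]; exact zero_mem _
    | add a b ha hb iha ihb =>
      rw [KaehlerDifferential.submodule_span_range_eq_ideal] at ha hb
      rw [show (⟨a + b, hw⟩ : ↥(KaehlerDifferential.ideal A B)) = ⟨a, ha⟩ + ⟨b, hb⟩ from rfl, map_add]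
      refine (map_add _ _ _).trans ?_
      rw [iha ha, ihb hb]
      refine (map_add _ _ _).symm.trans ?_
      congr 1
      ext
      exact (map_add (PP16.tensorMap A B A' B') a b).symm
    | smul r a ha iha =>
      rw [KaehlerDifferential.submodule_span_range_eq_ideal] at ha
      rw [show (⟨r • a, hw⟩ : ↥(KaehlerDifferential.ideal A B)) = r • (⟨a, ha⟩ : ↥(KaehlerDifferential.ideal A B)) from rfl,
        LinearMap.map_smul_of_tower]
      refine ((KaehlerDifferential.map A A' B B').map_smul r _).trans ?_
      rw [iha ha, ← algebraMap_smul B' r]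
      refine ((((KaehlerDifferential.ideal A' B').toCotangent).restrictScalars B').map_smul
        (algebraMap B B' r) _).symm.trans (congrArg (KaehlerDifferential.ideal A' B').toCotangent
          (Subtype.ext ?_))
      exact (tensorMap_smul A B A' B' r a).symm
  have hy : y = fun i => (KaehlerDifferential.ideal A B).toCotangent (z i) := funext fun i => (hz i).symm
  subst hy
  have h1 : (fun i => KaehlerDifferential.map A A' B B' ((KaehlerDifferential.ideal A B).toCotangent (z i))) =
      fun i => (KaehlerDifferential.ideal A' B').toCotangent (z' i) := funext fun i => key (z i)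
  refine (congrArg (fun v => canon B' (KaehlerDifferential.ideal A' B') ι (SymmetricPower.tprod B' v)) h1).trans ?_
  refine (canon_tprod B' (KaehlerDifferential.ideal A' B') ι z').trans ?_
  refine Eq.trans ?_ (congrArg gm (canon_tprod B (KaehlerDifferential.ideal A B) ι z)).symm
  rw [zeta, zeta, hgm]
  congr 1
  ext
  exact (map_prod (PP16.tensorMap A B A' B') (fun i => (z i : B ⊗[A] B)) Finset.univ).symm

end square

end Groth.Agent.SymGr
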