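import Mathlib.LinearAlgebra.TensorPower.Symmetric
import Mathlib.LinearAlgebra.Multilinear.Basis
import Mathlib.LinearAlgebra.Multilinear.Basic
import Mathlib.RingTheory.MvPolynomial.Ideal
import Mathlib.Algebra.Module.Projective
import Mathlib.Logic.Equiv.Basic
import Mathlib.Data.Fintype.Card

/-!
# Symmetric powers: universal property, functoriality, embedding into polynomials
-/

universe u v w

namespace Groth.Agent.SymGr

open TensorProduct

section

variable {R : Type u} [CommRing R] {ι : Type u} {M : Type v} [AddCommGroup M] [Module R M]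

theorem hom_ext {N : Type*} [AddCommGroup N] [Module R N] {f g : Sym[R] ι M →ₗ[R] N}
    (h : ∀ x : ι → M, f (SymmetricPower.tprod R x) = g (SymmetricPower.tprod R x)) : f = g := by
  refine LinearMap.ext_on_range (SymmetricPower.span_tprod_eq_top R ι M) h

/-- A symmetric multilinear map descends to the symmetric power. -/
noncomputable def lift {N : Type*} [AddCommGroup N] [Module R N]
    (g : MultilinearMap R (fun _ : ι => M) N) (hg : ∀ (e : Equiv.Perm ι) (x : ι → M), g (fun i => x (e i)) = g x) :
    Sym[R] ι M →ₗ[R] N where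
  toFun := AddCon.lift _ (PiTensorProduct.lift g).toAddMonoidHom (AddCon.addConGen_le.mpr (by
    rintro _ _ ⟨e, x⟩
    rw [AddCon.ker_apply]
    show PiTensorProduct.lift g (PiTensorProduct.tprod R fun i => x i) =
      PiTensorProduct.lift g (PiTensorProduct.tprod R fun i => x (e i))
    rw [PiTensorProduct.lift.tprod, PiTensorProduct.lift.tprod, hg e x]))
  map_add' := map_add _
  map_smul' r x := AddCon.induction_on x fun y => (PiTensorProduct.lift g).map_smul r y

theorem lift_tprod {N : Type*} [AddCommGroup N] [Module R N]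
    (g : MultilinearMap R (fun _ : ι => M) N) (hg : ∀ (e : Equiv.Perm ι) (x : ι → M), g (fun i => x (e i)) = g x)
    (x : ι → M) : lift g hg (SymmetricPower.tprod R x) = g x :=
  PiTensorProduct.lift.tprod x

/-- Functoriality of symmetric powers. -/
noncomputable def map {N : Type w} [AddCommGroup N] [Module R N] (f : M →ₗ[R] N) :
    Sym[R] ι M →ₗ[R] Sym[R] ι N :=
  lift ((SymmetricPower.tprod R).compLinearMap fun _ => f) fun e x =>
    SymmetricPower.tprod_equiv e fun i => f (x i)

theorem map_tprod {N : Type w} [AddCommGroup N] [Module R N] (f : M →ₗ[R] N) (x : ι → M) :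
    map f (SymmetricPower.tprod R x) = SymmetricPower.tprod R fun i => f (x i) :=
  lift_tprod _ _ x

theorem map_injective_of_leftInverse {N : Type w} [AddCommGroup N] [Module R N] (f : M →ₗ[R] N)
    (g : N →ₗ[R] M) (h : g ∘ₗ f = LinearMap.id) :
    Function.Injective (map (ι := ι) f) := by
  have : (map g).comp (map (ι := ι) f) = LinearMap.id := hom_ext fun x => by
    rw [LinearMap.comp_apply, map_tprod, map_tprod, LinearMap.id_apply]
    congr 1
    funext i
    exact LinearMap.congr_fun h (x i)
  exact Function.LeftInverse.injective fun x => LinearMap.congr_fun this x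

variable [Fintype ι]

/-- The product map into a commutative algebra. -/
noncomputable def prodMap {Q : Type*} [CommRing Q] [Algebra R Q] (j : M →ₗ[R] Q) :
    Sym[R] ι M →ₗ[R] Q :=
  lift ((MultilinearMap.mkPiAlgebra R ι Q).compLinearMap fun _ => j) fun e x => by
    simp only [MultilinearMap.compLinearMap_apply, MultilinearMap.mkPiAlgebra_apply]
    exact Equiv.prod_comp e fun i => j (x i)

theorem prodMap_tprod {Q : Type*} [CommRing Q] [Algebra R Q] (j : M →ₗ[R] Q) (x : ι → M) :
    prodMap j (SymmetricPower.tprod R x) = ∏ i, j (x i) := by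
  rw [prodMap, lift_tprod]
  simp [MultilinearMap.compLinearMap_apply]

end

section poly

variable {R : Type u} [CommRing R] {ι : Type u} [Fintype ι] {σ : Type v}

theorem exists_perm_of_sum_single_eq (c c' : ι → σ)
    (h : ∑ i, Finsupp.single (c i) 1 = ∑ i, Finsupp.single (c' i) (1 : ℕ)) :
    ∃ e : Equiv.Perm ι, ∀ i, c' (e i) = c i := by
  classical
  have hc : ∀ s, Fintype.card {i // c i = s} = Fintype.card {i // c' i = s} := by
    intro s
    have := DFunLike.congr_fun h s
    simpa [Finsupp.finsetSum_apply, Finsupp.single_apply, Fintype.card_subtype, Finset.sum_boole]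
      using this
  exact ⟨Equiv.ofFiberEquiv fun s => Fintype.equivOfCardEq (hc s), fun i => Equiv.ofFiberEquiv_map _ i⟩

/-- The linear form map `(σ →₀ R) → R[σ]`. -/
noncomputable def linForm : (σ →₀ R) →ₗ[R] MvPolynomial σ R :=
  Finsupp.linearCombination R (MvPolynomial.X : σ → MvPolynomial σ R)

theorem exists_leftInverse_prodMap_linForm :
    ∃ Ψ : MvPolynomial σ R →ₗ[R] Sym[R] ι (σ →₀ R),
      Ψ ∘ₗ prodMap (ι := ι) (linForm (R := R) (σ := σ)) = LinearMap.id := by
  classical
  let T : (ι → σ) → Sym[R] ι (σ →₀ R) := fun c =>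
    SymmetricPower.tprod R fun i => Finsupp.single (c i) (1 : R)
  have hT : ∀ c c' : ι → σ, ∑ i, Finsupp.single (c i) 1 = ∑ i, Finsupp.single (c' i) (1 : ℕ) → T c = T c' := by
    intro c c' h
    obtain ⟨e, he⟩ := exists_perm_of_sum_single_eq c c' h
    have : T c = SymmetricPower.tprod R fun i => Finsupp.single (c' (e i)) (1 : R) := by
      simp only [T, he]
    rw [this]
    exact SymmetricPower.tprod_equiv e fun i => Finsupp.single (c' i) (1 : R)
  let pick : (σ →₀ ℕ) → Sym[R] ι (σ →₀ R) := fun d =>
    if h : ∃ c : ι → σ, ∑ i, Finsupp.single (c i) 1 = d then T h.choose else 0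
  let Ψ : MvPolynomial σ R →ₗ[R] Sym[R] ι (σ →₀ R) := (MvPolynomial.basisMonomials σ R).constr R pick
  have h : Ψ.comp (prodMap (ι := ι) (linForm (R := R) (σ := σ))) = LinearMap.id := by
    have key : (Ψ.comp (prodMap (ι := ι) (linForm (R := R) (σ := σ)))).compMultilinearMap (SymmetricPower.tprod R) =
        SymmetricPower.tprod R := by
      refine Module.Basis.ext_multilinear (fun _ => Finsupp.basisSingleOne (ι := σ) (R := R)) fun c => ?_
      simp only [LinearMap.compMultilinearMap_apply, LinearMap.comp_apply, prodMap_tprod]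
      simp only [Finsupp.basisSingleOne, Module.Basis.coe_ofRepr, linForm,
        LinearEquiv.refl_symm, LinearEquiv.refl_apply, Finsupp.linearCombination_single, one_smul]
      have hm : ∏ i, (MvPolynomial.X (c i) : MvPolynomial σ R) =
          MvPolynomial.basisMonomials σ R (∑ i, Finsupp.single (c i) 1) := by
        rw [MvPolynomial.coe_basisMonomials]
        exact (MvPolynomial.monomial_sum_one Finset.univ _).symm
      have hex : ∃ c' : ι → σ, ∑ i, Finsupp.single (c' i) 1 = ∑ i, Finsupp.single (c i) (1 : ℕ) := ⟨c, rfl⟩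
      rw [hm, Module.Basis.constr_basis]
      simp only [pick, dif_pos hex]
      exact hT _ _ hex.choose_spec
    refine hom_ext (f := Ψ.comp (prodMap linForm)) (g := LinearMap.id) fun x => ?_
    exact DFunLike.congr_fun key x
  exact ⟨Ψ, h⟩

theorem prodMap_linForm_injective :
    Function.Injective (prodMap (ι := ι) (linForm (R := R) (σ := σ))) := by
  obtain ⟨Ψ, h⟩ := exists_leftInverse_prodMap_linForm (R := R) (ι := ι) (σ := σ)
  exact Function.LeftInverse.injective (g := Ψ) fun x => LinearMap.congr_fun h x

theorem prodMap_linForm_isHomogeneous (x : Sym[R] ι (σ →₀ R)) (d : σ →₀ ℕ)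
    (hd : MvPolynomial.coeff d (prodMap (ι := ι) linForm x) ≠ 0) : d.degree = Fintype.card ι := by
  have key : prodMap (ι := ι) linForm x ∈ MvPolynomial.homogeneousSubmodule σ R (Fintype.card ι) := by
    have : LinearMap.range (prodMap (ι := ι) (linForm (R := R) (σ := σ))) ≤
        MvPolynomial.homogeneousSubmodule σ R (Fintype.card ι) := by
      rw [LinearMap.range_eq_map, ← SymmetricPower.span_tprod_eq_top R ι, Submodule.map_span,
        Submodule.span_le]
      rintro _ ⟨_, ⟨y, rfl⟩, rfl⟩
      rw [SetLike.mem_coe, prodMap_tprod]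
      have hlin : ∀ z : σ →₀ R, MvPolynomial.IsHomogeneous (linForm z) 1 := fun z => by
        rw [linForm, Finsupp.linearCombination_apply, Finsupp.sum]
        refine MvPolynomial.IsHomogeneous.sum _ _ _ fun s _ => ?_
        rw [MvPolynomial.smul_eq_C_mul]
        exact MvPolynomial.isHomogeneous_C_mul_X _ s
      have := MvPolynomial.IsHomogeneous.prod Finset.univ (fun i => linForm (y i)) (fun _ => 1)
        fun i _ => hlin (y i)
      simpa using this
    exact this ⟨x, rfl⟩
  by_contra hne
  exact hd (MvPolynomial.IsHomogeneous.coeff_eq_zero key hne)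

/-- A section of the projection from the free module gives an embedding into truncated polynomials. -/
theorem prodMap_mk_injective {M : Type w} [AddCommGroup M] [Module R M] (s : M →ₗ[R] (σ →₀ R))
    (p : (σ →₀ R) →ₗ[R] M) (hps : p ∘ₗ s = LinearMap.id) (m : ℕ) (hm : Fintype.card ι < m) :
    Function.Injective (prodMap (ι := ι) ((Ideal.Quotient.mkₐ R
      (MvPolynomial.idealOfVars σ R ^ m)).toLinearMap ∘ₗ linForm ∘ₗ s)) := by
  have h : prodMap (ι := ι) ((Ideal.Quotient.mkₐ R
      (MvPolynomial.idealOfVars σ R ^ m)).toLinearMap ∘ₗ linForm ∘ₗ s) =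
      (Ideal.Quotient.mkₐ R (MvPolynomial.idealOfVars σ R ^ m)).toLinearMap ∘ₗ
        prodMap linForm ∘ₗ map s := hom_ext fun x => by
    simp only [LinearMap.comp_apply, prodMap_tprod, map_tprod]
    exact (map_prod (Ideal.Quotient.mkₐ R (MvPolynomial.idealOfVars σ R ^ m))
      (fun i => linForm (s (x i))) Finset.univ).symm
  rw [← LinearMap.ker_eq_bot, LinearMap.ker_eq_bot']
  intro x hx
  rw [h] at hx
  have hmem : prodMap linForm (map s x) ∈ MvPolynomial.idealOfVars σ R ^ m :=
    Ideal.Quotient.eq_zero_iff_mem.mp hx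
  have h0 : prodMap linForm (map s x) = 0 := by
    ext d
    rw [MvPolynomial.coeff_zero]
    by_contra hd
    have h1 := prodMap_linForm_isHomogeneous _ d hd
    exact hd ((MvPolynomial.mem_pow_idealOfVars_iff' m _).mp hmem d (by omega))
  have h1 : map s x = 0 := prodMap_linForm_injective (by rw [h0, map_zero])
  exact map_injective_of_leftInverse s p hps (by rw [h1, map_zero])

end poly

end Groth.Agent.SymGr
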